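/-
The icosian ring in integer coordinates: `Ic` (coordinates over `ℤ[τ]` in the basis `1, i, w, i w`), the embedding
`emb` onto `icosians`, norms, and the list `U` of the 120 units.
-/
import Cfsg.Prelude.Def_Spor_J2
import Cfsg.Agent.Lib.Comp.Net

set_option autoImplicit false

namespace Cfsg.Lib.J2

open Cfsg.Spor Quaternion Cfsg.Lib.Comp

theorem tau_sq : tau ^ 2 = tau + 1 := by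
  have := Real.sq_sqrt (show (0 : ℝ) ≤ 5 by norm_num)
  unfold tau; linear_combination (1 / 4 : ℝ) * this

theorem sig_eq : sig = 1 - tau := by unfold sig tau; ring

theorem sqrt5_eq : Real.sqrt 5 = 2 * tau - 1 := by unfold tau; ring

theorem tau_ne : tau ≠ 0 := fun h => by have := tau_sq; rw [h] at this; norm_num at this

/-- `a + b τ`. -/
@[ext] structure Zt where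
  a : ℤ
  b : ℤ
  deriving DecidableEq

namespace Zt
instance : Add Zt := ⟨fun x y => ⟨x.a + y.a, x.b + y.b⟩⟩
instance : Neg Zt := ⟨fun x => ⟨-x.a, -x.b⟩⟩
instance : Sub Zt := ⟨fun x y => ⟨x.a - y.a, x.b - y.b⟩⟩
instance : Mul Zt := ⟨fun x y => ⟨x.a * y.a + x.b * y.b, x.a * y.b + x.b * (y.a + y.b)⟩⟩
/-- multiplication by `τ - 1`. -/
def s (x : Zt) : Zt := ⟨x.b - x.a, x.a⟩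
@[simp] theorem add_a (x y : Zt) : (x + y).a = x.a + y.a := rfl
@[simp] theorem add_b (x y : Zt) : (x + y).b = x.b + y.b := rfl
@[simp] theorem neg_a (x : Zt) : (-x).a = -x.a := rfl
@[simp] theorem neg_b (x : Zt) : (-x).b = -x.b := rfl
@[simp] theorem sub_a (x y : Zt) : (x - y).a = x.a - y.a := rfl
@[simp] theorem sub_b (x y : Zt) : (x - y).b = x.b - y.b := rfl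
@[simp] theorem mul_a (x y : Zt) : (x * y).a = x.a * y.a + x.b * y.b := rfl
@[simp] theorem mul_b (x y : Zt) : (x * y).b = x.a * y.b + x.b * (y.a + y.b) := rfl
@[simp] theorem s_a (x : Zt) : x.s.a = x.b - x.a := rfl
@[simp] theorem s_b (x : Zt) : x.s.b = x.a := rfl

/-- the real value. -/
noncomputable def φ (x : Zt) : ℝ := x.a + x.b * tau
theorem φ_add (x y : Zt) : (x + y).φ = x.φ + y.φ := by simp only [φ, add_a, add_b]; push_cast; ring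
theorem φ_neg (x : Zt) : (-x).φ = -x.φ := by simp only [φ, neg_a, neg_b]; push_cast; ring
theorem φ_sub (x y : Zt) : (x - y).φ = x.φ - y.φ := by simp only [φ, sub_a, sub_b]; push_cast; ring
theorem φ_mul (x y : Zt) : (x * y).φ = x.φ * y.φ := by
  simp only [φ, mul_a, mul_b]; push_cast; linear_combination (-(x.b : ℝ) * y.b) * tau_sq
theorem φ_s (x : Zt) : x.s.φ = (tau - 1) * x.φ := by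
  simp only [φ, s_a, s_b]; push_cast; linear_combination (-(x.b : ℝ)) * tau_sq
theorem φ_mk (a b : ℤ) : (Zt.mk a b).φ = a + b * tau := rfl

theorem φ_inj {x y : Zt} (h : x.φ = y.φ) : x = y := by
  have hi : Irrational tau := Real.goldenRatio_irrational
  unfold φ at h
  by_cases hb : x.b = y.b
  · rw [hb] at h
    exact Zt.ext (by exact_mod_cast add_right_cancel h) hb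
  · exfalso
    have hb' : ((x.b - y.b : ℤ) : ℝ) ≠ 0 := by exact_mod_cast sub_ne_zero.2 hb
    refine hi ⟨((y.a - x.a : ℤ) : ℚ) / ((x.b - y.b : ℤ) : ℚ), ?_⟩
    push_cast at hb' ⊢
    field_simp
    linarith
end Zt

/-- `a + b i + c w + d i w`. -/
@[ext] structure Ic where
  a : Zt
  b : Zt
  c : Zt
  d : Zt
  deriving DecidableEq

namespace Ic
instance : Add Ic := ⟨fun x y => ⟨x.a + y.a, x.b + y.b, x.c + y.c, x.d + y.d⟩⟩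
instance : Neg Ic := ⟨fun x => ⟨-x.a, -x.b, -x.c, -x.d⟩⟩
instance : Sub Ic := ⟨fun x y => ⟨x.a - y.a, x.b - y.b, x.c - y.c, x.d - y.d⟩⟩
instance : Mul Ic := ⟨fun x y =>
  ⟨x.a * y.a - x.b * y.b + (x.c * y.b).s - x.c * y.c - x.d * y.b - x.d * y.d,
   x.a * y.b + x.b * y.a + x.c * y.b + x.c * y.d + (x.d * y.b).s - x.d * y.c,
   x.a * y.c + x.c * y.a - x.b * y.d + x.c * y.c + (x.c * y.d).s + x.d * y.b,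
   x.a * y.d + x.d * y.a + x.b * y.c - x.c * y.b + x.d * y.c + (x.d * y.d).s⟩⟩
instance : Zero Ic := ⟨⟨⟨0, 0⟩, ⟨0, 0⟩, ⟨0, 0⟩, ⟨0, 0⟩⟩⟩
instance : One Ic := ⟨⟨⟨1, 0⟩, ⟨0, 0⟩, ⟨0, 0⟩, ⟨0, 0⟩⟩⟩
/-- the conjugate. -/
def st (x : Ic) : Ic := ⟨x.a + x.c + x.d.s, -x.b, -x.c, -x.d⟩
/-- the norm. -/
def nrm (x : Ic) : Zt := (x * x.st).a
/-- all coordinates are even. -/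
def ev (x : Ic) : Bool := x.a.a % 2 == 0 && x.a.b % 2 == 0 && x.b.a % 2 == 0 && x.b.b % 2 == 0 &&
  x.c.a % 2 == 0 && x.c.b % 2 == 0 && x.d.a % 2 == 0 && x.d.b % 2 == 0
/-- one half. -/
def half (x : Ic) : Ic := ⟨⟨x.a.a / 2, x.a.b / 2⟩, ⟨x.b.a / 2, x.b.b / 2⟩, ⟨x.c.a / 2, x.c.b / 2⟩, ⟨x.d.a / 2, x.d.b / 2⟩⟩
/-- a real scalar. -/
def sc (z : Zt) : Ic := ⟨z, ⟨0, 0⟩, ⟨0, 0⟩, ⟨0, 0⟩⟩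

theorem add_def (x y : Ic) : x + y = ⟨x.a + y.a, x.b + y.b, x.c + y.c, x.d + y.d⟩ := rfl
theorem neg_def (x : Ic) : -x = ⟨-x.a, -x.b, -x.c, -x.d⟩ := rfl
theorem sub_def (x y : Ic) : x - y = ⟨x.a - y.a, x.b - y.b, x.c - y.c, x.d - y.d⟩ := rfl
theorem mul_def (x y : Ic) : x * y =
  ⟨x.a * y.a - x.b * y.b + (x.c * y.b).s - x.c * y.c - x.d * y.b - x.d * y.d,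
   x.a * y.b + x.b * y.a + x.c * y.b + x.c * y.d + (x.d * y.b).s - x.d * y.c,
   x.a * y.c + x.c * y.a - x.b * y.d + x.c * y.c + (x.c * y.d).s + x.d * y.b,
   x.a * y.d + x.d * y.a + x.b * y.c - x.c * y.b + x.d * y.c + (x.d * y.d).s⟩ := rfl
theorem zero_def : (0 : Ic) = ⟨⟨0, 0⟩, ⟨0, 0⟩, ⟨0, 0⟩, ⟨0, 0⟩⟩ := rfl
theorem one_def : (1 : Ic) = ⟨⟨1, 0⟩, ⟨0, 0⟩, ⟨0, 0⟩, ⟨0, 0⟩⟩ := rfl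

theorem half_add (x : Ic) : (x + x).half = x := by
  ext <;> simp only [half, add_def, Zt.add_a, Zt.add_b] <;> omega
theorem ev_add (x : Ic) : (x + x).ev = true := by
  simp only [ev, add_def, Zt.add_a, Zt.add_b, Bool.and_eq_true, beq_iff_eq]; omega
theorem half_add_half {x : Ic} (h : x.ev = true) : x.half + x.half = x := by
  simp only [ev, Bool.and_eq_true, beq_iff_eq] at h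
  ext <;> simp only [half, add_def, Zt.add_a, Zt.add_b] <;> omega
end Ic

/-- the quaternion with coordinates `x`. -/
noncomputable def emb (x : Ic) : ℍ[ℝ] :=
  ⟨x.a.φ + x.c.φ / 2 - (1 - tau) * x.d.φ / 2, x.b.φ + (1 - tau) * x.c.φ / 2 + x.d.φ / 2, -(tau * x.d.φ / 2),
    tau * x.c.φ / 2⟩

@[simp] theorem emb_re (x : Ic) : (emb x).re = x.a.φ + x.c.φ / 2 - (1 - tau) * x.d.φ / 2 := rfl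
@[simp] theorem emb_imI (x : Ic) : (emb x).imI = x.b.φ + (1 - tau) * x.c.φ / 2 + x.d.φ / 2 := rfl
@[simp] theorem emb_imJ (x : Ic) : (emb x).imJ = -(tau * x.d.φ / 2) := rfl
@[simp] theorem emb_imK (x : Ic) : (emb x).imK = tau * x.c.φ / 2 := rfl

theorem emb_add (x y : Ic) : emb (x + y) = emb x + emb y := by
  ext <;> simp [Ic.add_def, Zt.φ_add] <;> ring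
theorem emb_neg (x : Ic) : emb (-x) = -emb x := by
  ext <;> simp [Ic.neg_def, Zt.φ_neg] <;> ring
theorem emb_sub (x y : Ic) : emb (x - y) = emb x - emb y := by
  ext <;> simp [Ic.sub_def, Zt.φ_sub] <;> ring
theorem emb_mul (x y : Ic) : emb (x * y) = emb x * emb y := by
  have h := tau_sq
  ext <;> simp only [emb_re, emb_imI, emb_imJ, emb_imK, Ic.mul_def, Zt.φ_add, Zt.φ_sub, Zt.φ_s, Zt.φ_mul, Quaternion.re_mul, Quaternion.imI_mul,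
    Quaternion.imJ_mul, Quaternion.imK_mul] <;> grind
theorem emb_st (x : Ic) : emb x.st = star (emb x) := by
  have h := tau_sq
  ext <;> simp [Ic.st, Zt.φ_add, Zt.φ_neg, Zt.φ_s] <;> ring
theorem emb_sc (z : Zt) : emb (Ic.sc z) = (z.φ : ℍ[ℝ]) := by ext <;> simp [Ic.sc, Zt.φ_mk]
theorem emb_zero : emb 0 = 0 := by ext <;> simp [Ic.zero_def, Zt.φ_mk]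
theorem emb_one : emb 1 = 1 := by ext <;> simp [Ic.one_def, Zt.φ_mk]

theorem emb_inj {x y : Ic} (h : emb x = emb y) : x = y := by
  have h0 := congrArg QuaternionAlgebra.re h
  have h1 := congrArg QuaternionAlgebra.imI h
  have h2 := congrArg QuaternionAlgebra.imJ h
  have h3 := congrArg QuaternionAlgebra.imK h
  simp only [emb_re, emb_imI, emb_imJ, emb_imK] at h0 h1 h2 h3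
  have c : x.c.φ = y.c.φ := mul_left_cancel₀ tau_ne (by linarith)
  have d : x.d.φ = y.d.φ := mul_left_cancel₀ tau_ne (by linarith)
  rw [c, d] at h0 h1
  exact Ic.ext (Zt.φ_inj (by linarith)) (Zt.φ_inj (by linarith)) (Zt.φ_inj c) (Zt.φ_inj d)

theorem mem_ico {q : ℍ[ℝ]} : q ∈ icosians ↔ ∃ x, emb x = q := by
  constructor
  · intro h
    induction h using Subring.closure_induction with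
    | mem q hq =>
      rcases hq with rfl | rfl
      · exact ⟨⟨⟨0, 0⟩, ⟨1, 0⟩, ⟨0, 0⟩, ⟨0, 0⟩⟩, by ext <;> simp [qI, Zt.φ_mk]⟩
      · exact ⟨⟨⟨0, 0⟩, ⟨0, 0⟩, ⟨1, 0⟩, ⟨0, 0⟩⟩, by ext <;> simp [sig_eq, Zt.φ_mk]⟩
    | zero => exact ⟨0, emb_zero⟩
    | one => exact ⟨1, emb_one⟩
    | add _ _ _ _ h1 h2 => obtain ⟨x, rfl⟩ := h1; obtain ⟨y, rfl⟩ := h2; exact ⟨_, emb_add x y⟩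
    | neg _ _ h1 => obtain ⟨x, rfl⟩ := h1; exact ⟨_, emb_neg x⟩
    | mul _ _ _ _ h1 h2 => obtain ⟨x, rfl⟩ := h1; obtain ⟨y, rfl⟩ := h2; exact ⟨_, emb_mul x y⟩
  · rintro ⟨x, rfl⟩
    have hi : qI ∈ icosians := Subring.subset_closure (Or.inl rfl)
    have hw : (⟨1 / 2, sig / 2, 0, tau / 2⟩ : ℍ[ℝ]) ∈ icosians := Subring.subset_closure (Or.inr rfl)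
    set w : ℍ[ℝ] := ⟨1 / 2, sig / 2, 0, tau / 2⟩
    have hw' : w.re = 1 / 2 ∧ w.imI = sig / 2 ∧ w.imJ = 0 ∧ w.imK = tau / 2 := ⟨rfl, rfl, rfl, rfl⟩
    have hI : qI.re = 0 ∧ qI.imI = 1 ∧ qI.imJ = 0 ∧ qI.imK = 0 := ⟨rfl, rfl, rfl, rfl⟩
    have ht : (tau : ℍ[ℝ]) ∈ icosians := by
      have : (tau : ℍ[ℝ]) = 1 + qI * w - qI + w * qI := by
        ext <;> simp [hw', hI, sig_eq] <;> ring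
      rw [this]
      exact add_mem (sub_mem (add_mem (one_mem _) (mul_mem hi hw)) hi) (mul_mem hw hi)
    have hz : ∀ z : Zt, (z.φ : ℍ[ℝ]) ∈ icosians := fun z => by
      have : (z.φ : ℍ[ℝ]) = (z.a : ℍ[ℝ]) + (z.b : ℍ[ℝ]) * (tau : ℍ[ℝ]) := by ext <;> simp [Zt.φ]
      rw [this]
      exact add_mem (intCast_mem _ _) (mul_mem (intCast_mem _ _) ht)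
    have : emb x = (x.a.φ : ℍ[ℝ]) + x.b.φ * qI + x.c.φ * w + x.d.φ * (qI * w) := by
      ext <;> simp [hw', hI, sig_eq] <;> ring
    rw [this]
    exact add_mem (add_mem (add_mem (hz _) (mul_mem (hz _) hi)) (mul_mem (hz _) hw)) (mul_mem (hz _) (mul_mem hi hw))

theorem emb_mem (x : Ic) : emb x ∈ icosians := mem_ico.2 ⟨x, rfl⟩

theorem star_mem_ico {q : ℍ[ℝ]} (h : q ∈ icosians) : star q ∈ icosians := by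
  obtain ⟨x, rfl⟩ := mem_ico.1 h
  rw [← emb_st]; exact emb_mem _

theorem normSq_emb (x : Ic) : normSq (emb x) = x.nrm.φ := by
  have h : x * x.st = Ic.sc x.nrm := by
    ext <;> simp [Ic.nrm, Ic.sc, Ic.mul_def, Ic.st] <;> ring
  have := emb_mul x x.st
  rw [h, emb_sc, emb_st, Quaternion.self_mul_star] at this
  exact (Quaternion.coe_injective this).symm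

/-- the doubled real coordinates. -/
def dbl (x : Ic) : List ℤ :=
  [2 * x.a.a + x.c.a - x.d.a + x.d.b, 2 * x.a.b + x.c.b + x.d.a, 2 * x.b.a + x.c.a - x.c.b + x.d.a,
    2 * x.b.b - x.c.a + x.d.b, x.d.b, x.d.a + x.d.b, x.c.b, x.c.a + x.c.b]

theorem nrm_a (x : Ic) : 4 * x.nrm.a = ((dbl x).map fun u => u * u).sum := by
  simp [Ic.nrm, Ic.mul_def, Ic.st, dbl]; ring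

theorem nrm_ab (x : Ic) : 4 * (x.nrm.a + x.nrm.b) = (2 * x.a.a + x.c.a + x.d.b + 2 * x.a.b + x.c.b) ^ 2 +
    (2 * x.a.b + x.c.b + x.d.a) ^ 2 + (2 * x.b.a - x.c.b + x.d.a + 2 * x.b.b + x.d.b) ^ 2 +
    (2 * x.b.b - x.c.a + x.d.b) ^ 2 + (x.d.a + 2 * x.d.b) ^ 2 + (x.d.a + x.d.b) ^ 2 + (x.c.a + 2 * x.c.b) ^ 2 +
    (x.c.a + x.c.b) ^ 2 := by
  simp [Ic.nrm, Ic.mul_def, Ic.st]; ring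

theorem nrm_pos (x : Ic) : (x = 0 ∧ x.nrm.a = 0 ∧ x.nrm.b = 0) ∨ (x ≠ 0 ∧ 1 ≤ x.nrm.a ∧ 1 ≤ x.nrm.a + x.nrm.b) := by
  by_cases h : x = 0
  · subst h; exact Or.inl ⟨rfl, rfl, rfl⟩
  refine Or.inr ⟨h, ?_, ?_⟩
  · by_contra hc
    have := nrm_a x
    simp only [dbl, List.map, List.sum_cons, List.sum_nil] at this
    have k : ∀ u : ℤ, 0 ≤ u * u ∧ (u * u = 0 → u = 0) := fun u => ⟨mul_self_nonneg u, mul_self_eq_zero.1⟩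
    have := k (2 * x.a.a + x.c.a - x.d.a + x.d.b); have := k (2 * x.a.b + x.c.b + x.d.a)
    have := k (2 * x.b.a + x.c.a - x.c.b + x.d.a); have := k (2 * x.b.b - x.c.a + x.d.b)
    have := k x.d.b; have := k (x.d.a + x.d.b); have := k x.c.b; have := k (x.c.a + x.c.b)
    exact h (by ext <;> simp only [Ic.zero_def] <;> omega)
  · by_contra hc
    have := nrm_ab x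
    have k : ∀ u : ℤ, 0 ≤ u ^ 2 ∧ (u ^ 2 = 0 → u = 0) := fun u => ⟨sq_nonneg u, pow_eq_zero_iff two_ne_zero |>.1⟩
    have := k (2 * x.a.a + x.c.a + x.d.b + 2 * x.a.b + x.c.b); have := k (2 * x.a.b + x.c.b + x.d.a)
    have := k (2 * x.b.a - x.c.b + x.d.a + 2 * x.b.b + x.d.b); have := k (2 * x.b.b - x.c.a + x.d.b)
    have := k (x.d.a + 2 * x.d.b); have := k (x.d.a + x.d.b); have := k (x.c.a + 2 * x.c.b)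
    have := k (x.c.a + x.c.b)
    exact h (by ext <;> simp only [Ic.zero_def] <;> omega)

/-- recover the coordinates from the doubled ones. -/
def und : List ℤ → Ic
  | [p, q, r, s, t, u, v, w] => ⟨⟨(p - (w - v) + (u - t) - t) / 2, (q - v - (u - t)) / 2⟩,
      ⟨(r - (w - v) + v - (u - t)) / 2, (s + (w - v) - t) / 2⟩, ⟨w - v, v⟩, ⟨u - t, t⟩⟩
  | _ => 0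

theorem und_dbl (x : Ic) : und (dbl x) = x := by
  ext <;> simp only [und, dbl] <;> omega

/-- `f` holds on all integer lists of length `n` with sum of squares `≤ b ≤ 4`. -/
noncomputable def enB (f : List ℤ → Bool) (n : ℕ) : ℤ → List ℤ → Bool :=
  Nat.rec (motive := fun _ => ℤ → List ℤ → Bool) (fun _ acc => f acc)
    (fun _ ih b acc => allL [-2, -1, 0, 1, 2] fun u => cnd (decide (u * u ≤ b)) (ih (b - u * u) (u :: acc)) true) n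

theorem enB_sound {f : List ℤ → Bool} (l : List ℤ) {b : ℤ} {acc : List ℤ} (hb : b ≤ 4)
    (h : enB f l.length b acc = true) (hl : (l.map fun u => u * u).sum ≤ b) : f (l.reverse ++ acc) = true := by
  induction l generalizing b acc with
  | nil => exact h
  | cons u t ih =>
    have h0 : 0 ≤ (t.map fun u => u * u).sum := List.sum_nonneg fun z hz => by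
      obtain ⟨y, -, rfl⟩ := List.mem_map.1 hz; exact mul_self_nonneg y
    simp only [List.map_cons, List.sum_cons] at hl
    have hu : u ∈ [-2, -1, 0, 1, 2] := by
      have h1 : -2 ≤ u := by nlinarith
      have h2 : u ≤ 2 := by nlinarith
      simp only [List.mem_cons, List.not_mem_nil]; omega
    have := allL_iff.1 (show allL [-2, -1, 0, 1, 2] (fun u => cnd (decide (u * u ≤ b))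
      (enB f t.length (b - u * u) (u :: acc)) true) = true from h) u hu
    rw [cnd_eq, if_pos (decide_eq_true (by linarith))] at this
    simpa using ih (by nlinarith [mul_self_nonneg u]) this (by linarith)

/-- the 120 units. -/
def U : List Ic := [
⟨⟨-2, 1⟩, ⟨-1, 0⟩, ⟨1, -1⟩, ⟨-1, 1⟩⟩, ⟨⟨-2, 1⟩, ⟨-1, 0⟩, ⟨2, -1⟩, ⟨-1, 1⟩⟩, ⟨⟨-2, 1⟩, ⟨-1, 1⟩, ⟨2, -1⟩, ⟨-1, 0⟩⟩,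
  ⟨⟨-2, 1⟩, ⟨-1, 1⟩, ⟨2, -1⟩, ⟨-1, 1⟩⟩, ⟨⟨-2, 1⟩, ⟨0, 0⟩, ⟨1, -1⟩, ⟨-2, 1⟩⟩, ⟨⟨-2, 1⟩, ⟨0, 0⟩, ⟨1, -1⟩, ⟨-1, 1⟩⟩,
  ⟨⟨-2, 1⟩, ⟨0, 0⟩, ⟨1, 0⟩, ⟨-2, 1⟩⟩, ⟨⟨-2, 1⟩, ⟨0, 0⟩, ⟨1, 0⟩, ⟨-1, 1⟩⟩, ⟨⟨-2, 1⟩, ⟨1, -1⟩, ⟨0, 0⟩, ⟨-2, 1⟩⟩,
  ⟨⟨-2, 1⟩, ⟨1, -1⟩, ⟨0, 0⟩, ⟨-2, 2⟩⟩, ⟨⟨-2, 1⟩, ⟨1, 0⟩, ⟨0, 0⟩, ⟨-2, 1⟩⟩, ⟨⟨-2, 1⟩, ⟨1, 0⟩, ⟨1, 0⟩, ⟨-2, 1⟩⟩,
  ⟨⟨-2, 2⟩, ⟨0, 0⟩, ⟨1, -1⟩, ⟨-2, 1⟩⟩, ⟨⟨-1, 0⟩, ⟨-2, 1⟩, ⟨2, -1⟩, ⟨0, 0⟩⟩, ⟨⟨-1, 0⟩, ⟨-2, 1⟩, ⟨2, -1⟩, ⟨1, 0⟩⟩,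
  ⟨⟨-1, 0⟩, ⟨-1, 1⟩, ⟨1, 0⟩, ⟨0, 0⟩⟩, ⟨⟨-1, 0⟩, ⟨-1, 1⟩, ⟨2, -1⟩, ⟨0, 0⟩⟩, ⟨⟨-1, 0⟩, ⟨0, 0⟩, ⟨0, 0⟩, ⟨-1, 1⟩⟩,
  ⟨⟨-1, 0⟩, ⟨0, 0⟩, ⟨0, 0⟩, ⟨0, 0⟩⟩, ⟨⟨-1, 0⟩, ⟨0, 0⟩, ⟨1, 0⟩, ⟨-1, 1⟩⟩, ⟨⟨-1, 0⟩, ⟨0, 0⟩, ⟨1, 0⟩, ⟨0, 0⟩⟩,
  ⟨⟨-1, 0⟩, ⟨1, -1⟩, ⟨-1, 1⟩, ⟨-1, 1⟩⟩, ⟨⟨-1, 0⟩, ⟨1, -1⟩, ⟨0, 0⟩, ⟨-1, 1⟩⟩, ⟨⟨-1, 0⟩, ⟨2, -1⟩, ⟨-1, 1⟩, ⟨-2, 1⟩⟩,
  ⟨⟨-1, 0⟩, ⟨2, -1⟩, ⟨-1, 1⟩, ⟨-1, 1⟩⟩, ⟨⟨-1, 1⟩, ⟨-2, 1⟩, ⟨2, -2⟩, ⟨0, 0⟩⟩, ⟨⟨-1, 1⟩, ⟨-2, 1⟩, ⟨2, -1⟩, ⟨0, 0⟩⟩,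
  ⟨⟨-1, 1⟩, ⟨-1, 0⟩, ⟨1, -1⟩, ⟨-1, 1⟩⟩, ⟨⟨-1, 1⟩, ⟨-1, 0⟩, ⟨1, -1⟩, ⟨0, 0⟩⟩, ⟨⟨-1, 1⟩, ⟨-1, 1⟩, ⟨1, -1⟩, ⟨-1, 0⟩⟩,
  ⟨⟨-1, 1⟩, ⟨-1, 1⟩, ⟨1, -1⟩, ⟨0, 0⟩⟩, ⟨⟨-1, 1⟩, ⟨-1, 1⟩, ⟨2, -1⟩, ⟨-1, 0⟩⟩, ⟨⟨-1, 1⟩, ⟨-1, 1⟩, ⟨2, -1⟩, ⟨0, 0⟩⟩,
  ⟨⟨-1, 1⟩, ⟨0, 0⟩, ⟨0, 0⟩, ⟨-1, 0⟩⟩, ⟨⟨-1, 1⟩, ⟨0, 0⟩, ⟨0, 0⟩, ⟨-1, 1⟩⟩, ⟨⟨-1, 1⟩, ⟨0, 0⟩, ⟨1, -1⟩, ⟨-1, 0⟩⟩,
  ⟨⟨-1, 1⟩, ⟨0, 0⟩, ⟨1, -1⟩, ⟨-1, 1⟩⟩, ⟨⟨-1, 1⟩, ⟨1, -1⟩, ⟨-1, 0⟩, ⟨-2, 1⟩⟩, ⟨⟨-1, 1⟩, ⟨1, -1⟩, ⟨-1, 0⟩, ⟨-1, 1⟩⟩,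
  ⟨⟨-1, 1⟩, ⟨1, -1⟩, ⟨0, 0⟩, ⟨-2, 1⟩⟩, ⟨⟨-1, 1⟩, ⟨1, -1⟩, ⟨0, 0⟩, ⟨-1, 1⟩⟩, ⟨⟨-1, 1⟩, ⟨1, 0⟩, ⟨0, 0⟩, ⟨-2, 1⟩⟩,
  ⟨⟨-1, 1⟩, ⟨1, 0⟩, ⟨0, 0⟩, ⟨-1, 0⟩⟩, ⟨⟨-1, 1⟩, ⟨2, -1⟩, ⟨-1, 0⟩, ⟨-2, 1⟩⟩, ⟨⟨-1, 1⟩, ⟨2, -1⟩, ⟨-1, 1⟩, ⟨-2, 1⟩⟩,
  ⟨⟨0, 0⟩, ⟨-2, 1⟩, ⟨1, -1⟩, ⟨1, -1⟩⟩, ⟨⟨0, 0⟩, ⟨-2, 1⟩, ⟨1, -1⟩, ⟨1, 0⟩⟩, ⟨⟨0, 0⟩, ⟨-2, 1⟩, ⟨2, -1⟩, ⟨1, -1⟩⟩,
  ⟨⟨0, 0⟩, ⟨-2, 1⟩, ⟨2, -1⟩, ⟨1, 0⟩⟩, ⟨⟨0, 0⟩, ⟨-2, 2⟩, ⟨2, -1⟩, ⟨1, -1⟩⟩, ⟨⟨0, 0⟩, ⟨-1, 0⟩, ⟨0, 0⟩, ⟨0, 0⟩⟩,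
  ⟨⟨0, 0⟩, ⟨-1, 0⟩, ⟨0, 0⟩, ⟨1, 0⟩⟩, ⟨⟨0, 0⟩, ⟨-1, 0⟩, ⟨1, -1⟩, ⟨0, 0⟩⟩, ⟨⟨0, 0⟩, ⟨-1, 0⟩, ⟨1, -1⟩, ⟨1, 0⟩⟩,
  ⟨⟨0, 0⟩, ⟨-1, 1⟩, ⟨1, -1⟩, ⟨0, 0⟩⟩, ⟨⟨0, 0⟩, ⟨-1, 1⟩, ⟨1, -1⟩, ⟨1, -1⟩⟩, ⟨⟨0, 0⟩, ⟨-1, 1⟩, ⟨1, 0⟩, ⟨0, 0⟩⟩,
  ⟨⟨0, 0⟩, ⟨-1, 1⟩, ⟨1, 0⟩, ⟨1, -1⟩⟩, ⟨⟨0, 0⟩, ⟨0, 0⟩, ⟨-1, 0⟩, ⟨0, 0⟩⟩, ⟨⟨0, 0⟩, ⟨0, 0⟩, ⟨0, 0⟩, ⟨-1, 0⟩⟩,
  ⟨⟨0, 0⟩, ⟨0, 0⟩, ⟨0, 0⟩, ⟨1, 0⟩⟩, ⟨⟨0, 0⟩, ⟨0, 0⟩, ⟨1, 0⟩, ⟨0, 0⟩⟩, ⟨⟨0, 0⟩, ⟨1, -1⟩, ⟨-1, 0⟩, ⟨-1, 1⟩⟩,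
  ⟨⟨0, 0⟩, ⟨1, -1⟩, ⟨-1, 0⟩, ⟨0, 0⟩⟩, ⟨⟨0, 0⟩, ⟨1, -1⟩, ⟨-1, 1⟩, ⟨-1, 1⟩⟩, ⟨⟨0, 0⟩, ⟨1, -1⟩, ⟨-1, 1⟩, ⟨0, 0⟩⟩,
  ⟨⟨0, 0⟩, ⟨1, 0⟩, ⟨-1, 1⟩, ⟨-1, 0⟩⟩, ⟨⟨0, 0⟩, ⟨1, 0⟩, ⟨-1, 1⟩, ⟨0, 0⟩⟩, ⟨⟨0, 0⟩, ⟨1, 0⟩, ⟨0, 0⟩, ⟨-1, 0⟩⟩,
  ⟨⟨0, 0⟩, ⟨1, 0⟩, ⟨0, 0⟩, ⟨0, 0⟩⟩, ⟨⟨0, 0⟩, ⟨2, -2⟩, ⟨-2, 1⟩, ⟨-1, 1⟩⟩, ⟨⟨0, 0⟩, ⟨2, -1⟩, ⟨-2, 1⟩, ⟨-1, 0⟩⟩,
  ⟨⟨0, 0⟩, ⟨2, -1⟩, ⟨-2, 1⟩, ⟨-1, 1⟩⟩, ⟨⟨0, 0⟩, ⟨2, -1⟩, ⟨-1, 1⟩, ⟨-1, 0⟩⟩, ⟨⟨0, 0⟩, ⟨2, -1⟩, ⟨-1, 1⟩, ⟨-1, 1⟩⟩,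
  ⟨⟨1, -1⟩, ⟨-2, 1⟩, ⟨1, -1⟩, ⟨2, -1⟩⟩, ⟨⟨1, -1⟩, ⟨-2, 1⟩, ⟨1, 0⟩, ⟨2, -1⟩⟩, ⟨⟨1, -1⟩, ⟨-1, 0⟩, ⟨0, 0⟩, ⟨1, 0⟩⟩,
  ⟨⟨1, -1⟩, ⟨-1, 0⟩, ⟨0, 0⟩, ⟨2, -1⟩⟩, ⟨⟨1, -1⟩, ⟨-1, 1⟩, ⟨0, 0⟩, ⟨1, -1⟩⟩, ⟨⟨1, -1⟩, ⟨-1, 1⟩, ⟨0, 0⟩, ⟨2, -1⟩⟩,
  ⟨⟨1, -1⟩, ⟨-1, 1⟩, ⟨1, 0⟩, ⟨1, -1⟩⟩, ⟨⟨1, -1⟩, ⟨-1, 1⟩, ⟨1, 0⟩, ⟨2, -1⟩⟩, ⟨⟨1, -1⟩, ⟨0, 0⟩, ⟨-1, 1⟩, ⟨1, -1⟩⟩,
  ⟨⟨1, -1⟩, ⟨0, 0⟩, ⟨-1, 1⟩, ⟨1, 0⟩⟩, ⟨⟨1, -1⟩, ⟨0, 0⟩, ⟨0, 0⟩, ⟨1, -1⟩⟩, ⟨⟨1, -1⟩, ⟨0, 0⟩, ⟨0, 0⟩, ⟨1, 0⟩⟩,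
  ⟨⟨1, -1⟩, ⟨1, -1⟩, ⟨-2, 1⟩, ⟨0, 0⟩⟩, ⟨⟨1, -1⟩, ⟨1, -1⟩, ⟨-2, 1⟩, ⟨1, 0⟩⟩, ⟨⟨1, -1⟩, ⟨1, -1⟩, ⟨-1, 1⟩, ⟨0, 0⟩⟩,
  ⟨⟨1, -1⟩, ⟨1, -1⟩, ⟨-1, 1⟩, ⟨1, 0⟩⟩, ⟨⟨1, -1⟩, ⟨1, 0⟩, ⟨-1, 1⟩, ⟨0, 0⟩⟩, ⟨⟨1, -1⟩, ⟨1, 0⟩, ⟨-1, 1⟩, ⟨1, -1⟩⟩,
  ⟨⟨1, -1⟩, ⟨2, -1⟩, ⟨-2, 1⟩, ⟨0, 0⟩⟩, ⟨⟨1, -1⟩, ⟨2, -1⟩, ⟨-2, 2⟩, ⟨0, 0⟩⟩, ⟨⟨1, 0⟩, ⟨-2, 1⟩, ⟨1, -1⟩, ⟨1, -1⟩⟩,
  ⟨⟨1, 0⟩, ⟨-2, 1⟩, ⟨1, -1⟩, ⟨2, -1⟩⟩, ⟨⟨1, 0⟩, ⟨-1, 1⟩, ⟨0, 0⟩, ⟨1, -1⟩⟩, ⟨⟨1, 0⟩, ⟨-1, 1⟩, ⟨1, -1⟩, ⟨1, -1⟩⟩,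
  ⟨⟨1, 0⟩, ⟨0, 0⟩, ⟨-1, 0⟩, ⟨0, 0⟩⟩, ⟨⟨1, 0⟩, ⟨0, 0⟩, ⟨-1, 0⟩, ⟨1, -1⟩⟩, ⟨⟨1, 0⟩, ⟨0, 0⟩, ⟨0, 0⟩, ⟨0, 0⟩⟩,
  ⟨⟨1, 0⟩, ⟨0, 0⟩, ⟨0, 0⟩, ⟨1, -1⟩⟩, ⟨⟨1, 0⟩, ⟨1, -1⟩, ⟨-2, 1⟩, ⟨0, 0⟩⟩, ⟨⟨1, 0⟩, ⟨1, -1⟩, ⟨-1, 0⟩, ⟨0, 0⟩⟩,
  ⟨⟨1, 0⟩, ⟨2, -1⟩, ⟨-2, 1⟩, ⟨-1, 0⟩⟩, ⟨⟨1, 0⟩, ⟨2, -1⟩, ⟨-2, 1⟩, ⟨0, 0⟩⟩, ⟨⟨2, -2⟩, ⟨0, 0⟩, ⟨-1, 1⟩, ⟨2, -1⟩⟩,
  ⟨⟨2, -1⟩, ⟨-1, 0⟩, ⟨-1, 0⟩, ⟨2, -1⟩⟩, ⟨⟨2, -1⟩, ⟨-1, 0⟩, ⟨0, 0⟩, ⟨2, -1⟩⟩, ⟨⟨2, -1⟩, ⟨-1, 1⟩, ⟨0, 0⟩, ⟨2, -2⟩⟩,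
  ⟨⟨2, -1⟩, ⟨-1, 1⟩, ⟨0, 0⟩, ⟨2, -1⟩⟩, ⟨⟨2, -1⟩, ⟨0, 0⟩, ⟨-1, 0⟩, ⟨1, -1⟩⟩, ⟨⟨2, -1⟩, ⟨0, 0⟩, ⟨-1, 0⟩, ⟨2, -1⟩⟩,
  ⟨⟨2, -1⟩, ⟨0, 0⟩, ⟨-1, 1⟩, ⟨1, -1⟩⟩, ⟨⟨2, -1⟩, ⟨0, 0⟩, ⟨-1, 1⟩, ⟨2, -1⟩⟩, ⟨⟨2, -1⟩, ⟨1, -1⟩, ⟨-2, 1⟩, ⟨1, -1⟩⟩,
  ⟨⟨2, -1⟩, ⟨1, -1⟩, ⟨-2, 1⟩, ⟨1, 0⟩⟩, ⟨⟨2, -1⟩, ⟨1, 0⟩, ⟨-2, 1⟩, ⟨1, -1⟩⟩, ⟨⟨2, -1⟩, ⟨1, 0⟩, ⟨-1, 1⟩, ⟨1, -1⟩⟩]

theorem U_enum : enB (fun l => cnd (decide ((und l).nrm = ⟨1, 0⟩)) (decide (und l ∈ U)) true) 8 4 [] = true := by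
  decide +kernel

theorem mem_U {x : Ic} (h : x.nrm = ⟨1, 0⟩) : x ∈ U := by
  have := enB_sound (dbl x).reverse le_rfl U_enum (by rw [List.map_reverse, List.sum_reverse, ← nrm_a, h]; rfl)
  rw [List.reverse_reverse, List.append_nil, und_dbl, cnd_eq, if_pos (decide_eq_true h)] at this
  exact of_decide_eq_true this

theorem U_nrm : ∀ x ∈ U, x.nrm = ⟨1, 0⟩ := by decide +kernel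

theorem U_nodup : U.Nodup := by decide +kernel

theorem mem_U' {x : Ic} (h : normSq (emb x) = 1) : x ∈ U :=
  mem_U (Zt.φ_inj (by rw [← normSq_emb, h, Zt.φ_mk]; simp))

/-- the unit icosians. -/
def units : Set ℍ[ℝ] := {q | q ∈ icosians ∧ normSq q = 1}

theorem ncard_units : units.ncard = 120 := by
  have : units = emb '' (U.toFinset : Set Ic) := by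
    ext q
    constructor
    · rintro ⟨h1, h2⟩
      obtain ⟨x, rfl⟩ := mem_ico.1 h1
      exact ⟨x, by simpa using mem_U' h2, rfl⟩
    · rintro ⟨x, hx, rfl⟩
      exact ⟨emb_mem x, by rw [normSq_emb, U_nrm x (by simpa using hx), Zt.φ_mk]; simp⟩
  rw [this, Set.ncard_image_of_injective _ fun _ _ => emb_inj, Set.ncard_coe_finset, List.toFinset_card_of_nodup U_nodup]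
  rfl

end Cfsg.Lib.J2
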