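/-
Two maximal subgroups of the Hall–Janko group.
-/
import Cfsg.Agent.Lib.J2.Spec

set_option autoImplicit false
set_option maxRecDepth 100000

namespace Cfsg.Lib.J2

open Subgroup MulAction Cfsg.Lib.Golay

theorem coatom_of_subs {Γ : Type*} [Group Γ] {f : Γ →* Equiv.Perm ℕ} {n : ℕ} (h : Comp.TransOn f n) {l : List ℕ}
    (hl : Comp.SubsIn f (Comp.stab f 0) l 1) (hs : 1 + l.sum = n) (h1 : 1 < n)
    (har : ∀ d ∈ Comp.sums l, d ≠ 0 → 1 + d ∣ n → 1 + d = n) : IsCoatom (Comp.stab f 0) := by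
  classical
  refine ⟨fun e => h1.ne' (by rw [← h.index, e, index_top]), fun M hM => ?_⟩
  let Δ : ℕ → Prop := fun p => ∃ g ∈ M, f g 0 = p
  have hd := Comp.card_mem_sums Δ (by
    rintro g hg p ⟨x, hx, rfl⟩
    exact ⟨g * x, mul_mem (hM.le hg) hx, by rw [map_mul]; rfl⟩) l 1 hl
  rw [hs] at hd
  have e1 : (Comp.stab f 0).relIndex M = 1 + ((Finset.Ico 1 n).filter Δ).card := by
    have : {p | ∃ g ∈ M, f g 0 = p} = (insert 0 ((Finset.Ico 1 n).filter Δ) : Finset ℕ) := by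
      ext p
      simp only [Set.mem_ofPred_eq, Finset.coe_insert, Set.mem_insert_iff, Finset.mem_coe, Finset.mem_filter,
        Finset.mem_Ico]
      refine ⟨?_, fun hp => hp.elim (fun e => ⟨1, M.one_mem, by simp [e]⟩) fun hp => hp.2⟩
      rintro ⟨g, hg, rfl⟩
      exact (Nat.eq_zero_or_pos _).imp_right fun h0 => ⟨⟨h0, h.1 g⟩, g, hg, rfl⟩
    rw [Comp.relIndex_stab, this, Set.ncard_coe_finset, Finset.card_insert_of_notMem (by simp), add_comm]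
  have e2 := relIndex_mul_index hM.le
  rw [e1, h.index] at e2
  have e3 := har _ hd (fun h0 => hM.not_ge (relIndex_eq_one.1 (by rw [e1, h0]))) ⟨_, e2.symm⟩
  rw [e3] at e2
  exact index_eq_one.1 (Nat.eq_of_mul_eq_mul_left (by omega) (e2.trans (mul_one n).symm))

theorem coatom_of_le {G : Type*} [Group G] {H K : Subgroup G} (h : K ≤ H) (h1 : K ≠ H)
    (h2 : ∀ L, K < L → L ≤ H → H ≤ L) : IsCoatom (K.subgroupOf H) :=
  ConjTo.isCoatom (σ := 1) ⟨one_mem _, h, fun g => by simp [mem_subgroupOf]⟩ h1 h2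

theorem le_of_words {K : Subgroup (Equiv.Perm (Fin 100))} {ks : List ℕ} (hk : ∀ g ∈ ks, pc.InH K g) {t : ℕ}
    (ht : pc.Valid t) {ws : List (List ℕ)} (e : mapL (wordN 100 (t :: ks)) ws = gs) (L : Subgroup _) (h : K ≤ L)
    (h' : pc.dec t ∈ L) : pc.gen gs ≤ L :=
  Coding.gen_le (inH_of_words (List.forall_mem_cons.2 ⟨⟨ht, h'⟩, fun g hg => (hk g hg).mono h⟩) ws e)

theorem coatom_H0 : IsCoatom (H0.subgroupOf (pc.gen gs)) := by
  refine coatom_of_le inf_le_left (fun e => by have := orbit0.2; rw [e, card_gen] at this; omega)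
    (le_of_stab_lt (T := {σ | ∃ t ∈ ts.tail, pc.dec t = σ}) (fun y _ => ?_) ?_)
  · obtain ⟨t, ht, k, hk, rfl⟩ := cover_pts y
    rcases List.mem_cons.1 ht with rfl | h
    · left; rw [((ts_inH _ ht).1.dec_eq_one_iff).2 (by decide +kernel)]; exact hk.2
    · exact Or.inr ⟨_, ⟨t, h, rfl⟩, (ts_inH t ht).2, mem_orbit_subgroup.2 ⟨k, hk, rfl⟩⟩
  · rintro _ ⟨t, ht, rfl⟩
    obtain ⟨ws, -, e⟩ : ∃ ws ∈ [[[1], [0, 0, 1, 2, 2, 2, 0, 2, 0, 1, 0, 0, 0], [2, 1, 2, 2, 1, 2, 1, 2, 1, 2, 2, 1],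
        [0, 0, 0, 1, 2, 2, 1, 0, 0, 0], [0, 1, 2, 2, 0, 0, 1, 0, 1, 0, 0]],
      [[1], [2, 0, 0, 1, 0, 2, 0, 1, 2, 0, 0, 2, 0, 2], [2, 1, 2, 2, 1, 2, 1, 2, 1, 2, 2, 1],
        [2, 2, 2, 2, 1, 2, 2, 2, 2, 1], [2, 2, 2, 2, 1, 2, 2, 2, 2, 1, 0]]], mapL (wordN 100 (t :: hs)) ws = gs := by
      revert t; decide +kernel
    exact le_of_words hs_inH (ts_inH t (List.mem_of_mem_tail ht)).1 e

/-- double coset representatives of `Cz`. -/
noncomputable def rs : List ℕ := mapL (wordN 100 gs) [[1], [4], [2, 1], [4, 2, 3, 1], [2, 3, 4, 1]]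

theorem rs_inH : ∀ g ∈ rs, pc.InH (pc.gen gs) g := Coding.inH_words gs_inH _

theorem coatom_Cz : IsCoatom (Cz.subgroupOf (pc.gen gs)) := by
  refine coatom_of_le inf_le_left (fun e => by have := card_Cz; rw [e, card_gen] at this; omega) ?_
  rw [Cz, ← stabilizer_toCj]
  refine le_of_stab_lt (T := {σ | ∃ t ∈ rs, pc.dec t = σ}) (fun y hy => ?_) ?_
  · obtain ⟨m, h1, h2⟩ := Coding.multiH_spec pc.conjCode (conjN 100) (fun g hg => (cs_inH g hg).1.impl_conj)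
      (T := mapL (conjN 100 · z1) rs) (fun x hx => by
        obtain ⟨t, ht, rfl⟩ := List.mem_map.1 (mapL_eq _ _ ▸ hx)
        exact ((rs_inH t ht).1.conj z1_valid).1)
      (k := fun m => bfsH 1021 10 (mapL (conjN 100) gs) 5 z1 fun _ L => allL L fun y => bor (Nat.beq y z1) (m y))
      (by decide +kernel)
    obtain ⟨-, _, L, h3, h4, -⟩ := Coding.bfsH_gen pc.conjCode (conjN 100) (fun g hg => (gs_valid g hg).impl_conj)
      z1_valid h1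
    revert y
    refine h4.forall fun y hy hv => ?_
    refine (bor_iff.1 (allL_iff.1 h3 y hy)).imp (fun e => by rw [beq_iff.1 e]; rfl) fun e => ?_
    obtain ⟨x, hx, k⟩ := (h2 y hv).1 e
    obtain ⟨t, ht, rfl⟩ := List.mem_map.1 (mapL_eq _ _ ▸ hx)
    refine ⟨_, ⟨t, ht, rfl⟩, (rs_inH t ht).2, ?_⟩
    rw [stabilizer_toCj, ← Cz, ← gen_cs]
    exact ((rs_inH t ht).1.impl_conj z1 z1_valid).2 ▸ k
  · rintro _ ⟨t, ht, rfl⟩
    obtain ⟨ws, -, e⟩ : ∃ ws ∈ [[[1, 1, 1], [0], [0, 2, 1, 0, 1, 1, 1, 1, 0, 2, 0, 1, 1, 0], [2, 2, 1, 2, 1, 2, 2, 2, 2],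
        [1, 2, 1, 2, 1, 0, 2, 1, 2, 0]],
      [[1, 1, 1], [2, 0, 2, 2, 2, 2, 0, 2, 0, 2, 2, 2, 2, 0], [0, 2, 1, 0, 1, 2, 1, 0, 2, 0, 2, 0, 1, 0],
        [2, 2, 1, 2, 1, 2, 2, 2, 2], [0]],
      [[1, 1, 1], [1, 2, 1, 2, 0, 0, 1, 2, 1, 2], [0, 1, 2, 1, 2, 0, 0, 1, 2, 1, 2], [2, 2, 1, 2, 1, 2, 2, 2, 2],
        [0, 2, 1, 2, 1, 0, 0, 0, 1, 0]],
      [[1, 1, 1], [2, 1, 1, 0, 2, 1, 0, 0, 1, 1, 0, 0, 0], [2, 2, 0, 2, 2, 0, 2, 1, 1, 2, 0, 2],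
        [2, 2, 1, 2, 1, 2, 2, 2, 2], [1, 2, 0, 1, 2, 1, 2, 0, 2, 0, 2, 1]],
      [[1, 1, 1], [2, 2, 2, 1, 2, 2, 0, 2, 2, 0, 0, 0, 2, 0], [2, 1, 0, 2, 1, 0, 2, 1, 2, 1, 0, 0],
        [2, 2, 1, 2, 1, 2, 2, 2, 2], [0, 0, 0, 0, 1, 0, 2, 1, 1, 0, 2, 2]]], mapL (wordN 100 (t :: cs)) ws = gs := by
      revert t; decide +kernel
    rw [stabilizer_toCj]
    exact le_of_words cs_inH (rs_inH t ht).1 e

/-- a homomorphism from `J2` read on words in the generators. -/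
theorem hom_wordN {Δ : Type*} [Group Δ] (Φ : pc.gen gs →* Δ) {d : ℕ → Δ}
    (h : ∀ i < 5, Φ ⟨_, (Coding.inH_wordN gs_inH [i]).2⟩ = d (i + 1)) (w : List ℕ) (hw : ∀ i ∈ w, i < 5) :
    Φ ⟨_, (Coding.inH_wordN gs_inH w).2⟩ = Comp.ev d (w.map (· + 1)) := by
  induction w with
  | nil => exact (congrArg Φ (Subtype.ext pc.dec_one)).trans (map_one Φ)
  | cons i w ih =>
    rw [List.map_cons, Comp.ev_cons, ← ih fun j hj => hw j (List.mem_cons_of_mem _ hj), ← h i (hw i List.mem_cons_self),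
      ← map_mul]
    refine congrArg Φ (Subtype.ext ?_)
    have a : pc.Valid (getL gs (idN 100) i) := (getL_mem_or gs (idN 100) i).elim (gs_valid _) fun e => by
      rw [e]; exact pc.valid_one
    exact (a.dec_mul (Coding.inH_wordN gs_inH w).1).trans (congrArg (· * _)
      (((a.dec_mul pc.valid_one).trans (by rw [pc.dec_one, mul_one])).symm))

end Cfsg.Lib.J2
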