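/-
A subgroup of the Hall–Janko group of order divisible by 25 and larger than 900 is the whole group.
-/
import Cfsg.Agent.Lib.J2.Max

set_option autoImplicit false
set_option maxRecDepth 100000

namespace Cfsg.Lib.J2.Five

open Subgroup MulAction Cfsg.Lib.Golay

/-- words in the generators. -/
noncomputable def wd (w : List ℕ) : ℕ := wordN 100 gs w

theorem wd_inH (w : List ℕ) : pc.InH (pc.gen gs) (wd w) := Coding.inH_wordN gs_inH w

theorem dec_mul (u w : List ℕ) : pc.dec (mulN 100 (wd u) (wd w)) = pc.dec (wd u) * pc.dec (wd w) :=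
  (wd_inH u).1.dec_mul (wd_inH w).1

/-- an element of class `5A`. -/
noncomputable def x1 : ℕ := wd [4, 2, 3, 2]
/-- a second generator of the Sylow 5-subgroup. -/
noncomputable def x2 : ℕ := wd [3, 4, 3, 2]
/-- generators of the centraliser of `x1`. -/
noncomputable def c5 : List ℕ := [x1, x2, wd [1, 3, 2, 4, 2, 0, 1]]
/-- generators of the normaliser of the Sylow 5-subgroup. -/
noncomputable def n5 : List ℕ := mapL wd [[4, 3, 2], [2], [1, 0, 4, 2, 1, 2, 3, 1, 2, 0]]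

theorem x1_inH : pc.InH (pc.gen gs) x1 := wd_inH [4, 2, 3, 2]
theorem x2_inH : pc.InH (pc.gen gs) x2 := wd_inH [3, 4, 3, 2]

theorem c5_inH : ∀ g ∈ c5, pc.InH (pc.gen gs) g := by
  simp only [c5, List.forall_mem_cons]
  exact ⟨x1_inH, x2_inH, wd_inH _, by simp⟩

theorem q5_inH : ∀ g ∈ [x1, x2], pc.InH (pc.gen gs) g := fun g hg => c5_inH g (by
  simp only [c5, List.mem_cons, List.not_mem_nil, or_false] at hg ⊢; tauto)

theorem wds_inH (W : List (List ℕ)) : ∀ g ∈ mapL wd W, pc.InH (pc.gen gs) g := Coding.inH_words gs_inH W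

theorem n5_inH : ∀ g ∈ n5, pc.InH (pc.gen gs) g := wds_inH _

theorem card_C1 : Nat.card ↥(pc.gen gs ⊓ centralizer {pc.dec x1}) = 300 :=
  Coding.card_centralizer rfl gs_valid x1_inH.1 (n := 2016) (M := 4093) (d := 12) (a := 32) card_gen
    (by decide +kernel)

theorem gen_c5 : pc.gen c5 = pc.gen gs ⊓ centralizer {pc.dec x1} :=
  eq_of_le_of_card_ge (Coding.gen_le (inH_inf_cent c5_inH x1_inH.1 (by decide +kernel)))
    (by rw [card_C1, Coding.card_gen (fun g hg => (c5_inH g hg).1) (M := 509) (d := 9) (a := 5) (n := 300)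
      (by decide +kernel)])

theorem card_C12 : Nat.card ↥((pc.gen gs ⊓ centralizer {pc.dec x1}) ⊓ centralizer {pc.dec x2}) = 25 :=
  Coding.card_centralizer gen_c5 (fun g hg => (c5_inH g hg).1) x2_inH.1 (n := 12) (M := 31) (d := 5) (a := 1)
    card_C1 (by decide +kernel)

theorem norm5 : Nat.card (pc.gen [x1, x2]) = 25 ∧
    ∀ g ∈ pc.gen n5, ∀ x ∈ pc.gen [x1, x2], g * x * g⁻¹ ∈ pc.gen [x1, x2] :=
  (Coding.normal_cert (fun g hg => (n5_inH g hg).1) (fun g hg => (q5_inH g hg).1) (M := 61) (d := 6) (a := 1)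
    (q := fun _ => true) (by decide +kernel)).imp_right (·.2)

theorem reps {as : List ℕ} (has : ∀ g ∈ as, pc.Valid g) {W : List (List ℕ)}
    (h : multiH (mapL (conjN 100) as) (mapL wd W) (fun m => bfsH 4093 12 (mapL (conjN 100) gs) 32 x1 fun _ L =>
      allL L m) = true) {g : Equiv.Perm (Fin 100)} (hg : g ∈ pc.gen gs) :
    ∃ w ∈ W, ∃ n ∈ pc.gen as, n * pc.dec (wd w) * n⁻¹ = g * pc.dec x1 * g⁻¹ := by
  obtain ⟨m, h1, h2⟩ := Coding.multiH_spec pc.conjCode (conjN 100) (fun g hg => (has g hg).impl_conj)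
    (T := mapL wd W) (fun g hg => (wds_inH W g hg).1) h
  obtain ⟨-, _, L, h3, h4, -⟩ := Coding.bfsH_gen pc.conjCode (conjN 100) (fun g hg => (gs_valid g hg).impl_conj)
    x1_inH.1 h1
  have := h4.forall (Q := fun y => ∃ w ∈ W, y ∈ orbit (pc.gen as) (toCj (pc.dec (wd w)))) (fun y hy hv => by
    obtain ⟨x, hx, k⟩ := (h2 y hv).1 (allL_iff.1 h3 y hy)
    obtain ⟨w, hw, rfl⟩ := List.mem_map.1 (mapL_eq _ _ ▸ hx)
    exact ⟨w, hw, k⟩) (toCj (g * pc.dec x1 * g⁻¹)) (mem_orbit_toCj.2 ⟨g, hg, rfl⟩)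
  simpa only [mem_orbit_toCj] using this

variable {X : Subgroup (Equiv.Perm (Fin 100))}

theorem big_of {ks : List ℕ} (hq : pc.gen [x1, x2] ≤ X) (hk : ∀ g ∈ ks, pc.InH X g) {t : ℕ} (ht : pc.InH X t)
    {w : List ℕ} (e : wordN 100 (t :: ks) w = wd [0]) : pc.gen gs ≤ X :=
  le_of_words (Coding.inH_gen fun g hg => (q5_inH g hg).1) (wd_inH [0]).1
    (ws := [[0], [0, 1, 1, 0, 1, 1, 0, 1, 0, 1], [0, 2, 2, 2, 0, 2, 0, 2, 2, 2, 2, 0, 2, 0, 2, 0],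
      [1, 1, 1, 1, 0, 2, 2, 2, 2, 1, 0, 2, 1, 1, 1, 1, 0, 1], [0, 1, 1, 1, 0, 1, 1, 1, 0, 1, 1, 0, 1, 1, 0]])
    (by decide +kernel) X hq (e ▸ (Coding.inH_wordN (List.forall_mem_cons.2 ⟨ht, hk⟩) w).2)

theorem card_le_orbit {G : Type*} [Group G] [Finite G] {X C : Subgroup G} {x : G} {S : Set (Cj G)} {n : ℕ}
    (hS : S.ncard ≤ n) (h : ∀ g ∈ X, toCj (g * x * g⁻¹) ∈ S) (hC : X ⊓ centralizer {x} ≤ C) :
    Nat.card X ≤ n * Nat.card C := by
  have : Finite (Cj G) := ‹Finite G›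
  rw [card_eq_orbit_mul X (toCj x), stabilizer_toCj]
  refine Nat.mul_le_mul ((Set.ncard_le_ncard (fun y hy => ?_)).trans hS) (card_le_of_le hC)
  obtain ⟨g, hg, rfl⟩ := mem_orbit_subgroup.1 hy
  exact h g hg

/-- representatives and words. -/
def T2 : List (List ℕ × List ℕ) := [([0, 4, 2, 3, 2, 0], [3, 1, 0, 2, 0, 0, 1, 1, 0, 0, 3, 0]),
  ([2, 3, 0, 2, 4, 1], [1, 2, 1, 1, 0, 2, 2, 2, 3, 0]), ([3, 0, 2, 4, 2, 0], [0, 0, 2, 2, 1, 1, 1, 0, 0]),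
  ([1, 2, 3, 2, 4, 1], [1, 0, 2, 3, 2, 1, 0, 2]), ([0, 2, 4, 1, 2, 3], [1, 2, 1, 0, 0, 2, 3, 1, 1, 0]),
  ([3, 0, 4, 3, 2, 0], [3, 3, 2, 0, 0, 2, 2, 0, 3, 3, 3]), ([3, 0, 2, 4, 1, 2], [2, 2, 0, 0, 0, 2, 3, 2, 2, 0, 0, 2]),
  ([0, 2, 3, 4, 3, 0], [0, 3, 1, 0, 2, 1, 0, 1, 0]), ([1, 3, 4, 3, 2, 1], [1, 0, 0, 0, 0, 3, 0, 0, 0, 0, 2]),
  ([4, 1, 2, 3, 2, 1], [1, 0, 0, 3, 2, 3, 0, 0, 2, 0]), ([3, 2, 4, 1, 2, 0], [2, 0, 1, 0, 2, 3, 2, 0, 0, 0, 0]),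
  ([2, 3, 4, 1, 3, 2, 4], [0, 2, 3, 3, 0, 0, 0, 0, 2, 3]), ([1, 3, 0, 1, 2, 4, 2], [1, 1, 1, 0, 0, 3, 0, 0, 0, 2, 1]),
  ([1, 3, 4, 2, 3, 0, 2, 0, 1], [2, 0, 0, 3, 0, 1, 0, 0, 3, 3, 1]),
  ([3, 0, 2, 1, 3, 4, 3, 1, 0], [2, 3, 0, 0, 2, 2, 0, 3, 0, 0])]

theorem T2_ok : ∀ p ∈ T2, wordN 100 (wd p.1 :: c5) p.2 = wd [0] := by decide +kernel

theorem big2 (hX : X ≤ pc.gen gs) (hC : pc.gen c5 ≤ X) (h : 600 < Nat.card X) : pc.gen gs ≤ X := by
  have hc : ∀ g ∈ c5, pc.InH X g := fun g hg => (Coding.inH_gen (fun g hg => (c5_inH g hg).1) g hg).mono hC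
  have hq : pc.gen [x1, x2] ≤ X := Coding.gen_le fun g hg => hc g (by
    simp only [c5, List.mem_cons, List.not_mem_nil, or_false] at hg ⊢; tauto)
  by_contra hn
  refine h.not_ge ((card_le_orbit (S := {toCj (pc.dec x1), toCj (pc.dec (wd [2, 3, 2, 4]))}) (n := 2)
    (C := pc.gen gs ⊓ centralizer {pc.dec x1}) ((Set.ncard_insert_le _ _).trans (by rw [Set.ncard_singleton]))
    (fun g hg => ?_) (inf_le_inf_right _ hX)).trans (by rw [card_C1]))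
  obtain ⟨w, hw, n, hn', e⟩ := reps (fun g hg => (c5_inH g hg).1)
    (W := [4, 2, 3, 2] :: [2, 3, 2, 4] :: [3, 2, 4, 2] :: [2, 4, 2, 3] :: T2.map (·.1)) (by decide +kernel) (hX hg)
  have h1 : ∀ u, mulN 100 x1 (wd u) = idN 100 ∨ wd u = x1 → n * pc.dec (wd u) * n⁻¹ = pc.dec (wd u) := fun u hu => by
    have a : Commute n (pc.dec x1) := (mem_centralizer_singleton_iff.1 (gen_c5.le hn').2)
    rw [mul_inv_eq_iff_eq_mul]
    rcases hu with hu | hu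
    · have : pc.dec (wd u) = (pc.dec x1)⁻¹ := by
        rw [eq_inv_iff_mul_eq_one, mul_eq_one_comm, ← x1_inH.1.dec_mul (wd_inH u).1]
        exact (congrArg pc.dec hu).trans pc.dec_one
      rw [this]; exact a.inv_right
    · rw [hu]; exact a
  have h2 : pc.dec (wd w) = (n⁻¹ * g) * pc.dec x1 * (n⁻¹ * g)⁻¹ := by
    rw [mul_assoc n⁻¹, mul_inv_rev, ← mul_assoc, mul_assoc n⁻¹, ← e]; group
  have h3 : n⁻¹ * g ∈ X := mul_mem (inv_mem (hC hn')) hg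
  have h4 : mulN 100 (wd [2, 0, 4, 1, 3, 2, 4, 3, 0]) (wd w) = mulN 100 (wd w) (wd [2, 0, 4, 1, 3, 2, 4, 3, 0]) →
      False := fun a => by
    have b := congrArg pc.dec a
    rw [dec_mul, dec_mul, h2] at b
    have c := hC (gen_c5.ge (show (n⁻¹ * g)⁻¹ * pc.dec (wd [2, 0, 4, 1, 3, 2, 4, 3, 0]) * (n⁻¹ * g) ∈ _ from
      mem_inf.2 ⟨mul_mem (mul_mem (inv_mem (hX h3)) (wd_inH _).2) (hX h3), mem_centralizer_singleton_iff.2 (by
        generalize n⁻¹ * g = k at b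
        calc _ = k⁻¹ * (pc.dec (wd [2, 0, 4, 1, 3, 2, 4, 3, 0]) * (k * pc.dec x1 * k⁻¹)) * k := by group
          _ = _ := by rw [b]; group)⟩))
    refine hn (big_of hq hc (t := wd [2, 0, 4, 1, 3, 2, 4, 3, 0]) ⟨(wd_inH _).1, ?_⟩
      (w := [2, 3, 3, 0, 2, 0, 3, 0, 3, 3, 0, 1]) (by decide +kernel))
    simpa [mul_assoc] using mul_mem (mul_mem h3 c) (inv_mem h3)
  rw [← e]
  simp only [List.mem_cons] at hw
  rcases hw with rfl | rfl | rfl | rfl | hw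
  · rw [h1 _ (Or.inr rfl)]; exact Or.inl rfl
  · rw [h1 _ (Or.inl (by decide +kernel))]; exact Or.inr rfl
  · exact (h4 (by decide +kernel)).elim
  · exact (h4 (by decide +kernel)).elim
  · obtain ⟨p, hp, rfl⟩ := List.mem_map.1 hw
    refine (hn (big_of hq hc (t := wd p.1) ⟨(wd_inH _).1, ?_⟩ (w := p.2) (T2_ok p hp))).elim
    rw [h2]; exact mul_mem (mul_mem h3 (hc x1 (by simp [c5])).2) (inv_mem h3)

/-- the conjugate subgroup. -/
abbrev cj {G : Type*} [Group G] (n : G) (X : Subgroup G) : Subgroup G := X.comap (MulAut.conj n).toMonoidHom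

theorem card_cj {G : Type*} [Group G] (n : G) (X : Subgroup G) : Nat.card (cj n X) = Nat.card X :=
  (card_map_of_injective (f := (MulAut.conj n).toMonoidHom) (MulAut.conj n).injective).symm.trans
    (by rw [map_comap_eq_self_of_surjective (MulAut.conj n).surjective])

theorem cj_le {G : Type*} [Group G] {H X : Subgroup G} {n : G} (hn : n ∈ H) (h : X ≤ H) : cj n X ≤ H := fun g hg => by
  simpa [mul_assoc] using mul_mem (mul_mem (inv_mem hn) (h hg)) hn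

theorem le_of_cj {G : Type*} [Group G] {H X : Subgroup G} {n : G} (hn : n ∈ H) (h : H ≤ cj n X) : H ≤ X := fun g hg => by
  simpa [mul_assoc] using h (mul_mem (mul_mem (inv_mem hn) hg) hn)

/-- representatives and words. -/
def T1 : List (List ℕ × List ℕ) := [([0, 4, 2, 3, 2, 0], [0, 0, 0, 0, 1, 0, 0, 1, 1, 0, 0, 1, 0, 0, 0, 0]),
  ([4, 2, 3, 0, 2, 1], [1, 2, 2, 0, 2, 1, 0, 0, 2, 0, 2, 2]), ([3, 0, 2, 4, 2, 0], [0, 0, 2, 2, 1, 1, 1, 0, 0]),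
  ([2, 3, 4, 1, 3, 2, 4], [2, 0, 0, 0, 0, 2, 2, 2, 0, 2, 2, 2, 1]),
  ([1, 3, 0, 1, 2, 4, 2], [0, 0, 1, 1, 0, 0, 1, 0, 2, 0, 0, 2, 2]),
  ([1, 3, 4, 3, 1, 0, 2, 0], [2, 0, 0, 0, 1, 0, 1, 0, 2, 0, 2, 2, 0]),
  ([0, 1, 3, 4, 3, 2, 1, 0], [1, 0, 1, 2, 0, 0, 2, 0, 1, 0, 2, 2, 0, 1]),
  ([1, 3, 0, 4, 3, 2, 0, 1], [2, 0, 2, 2, 2, 0, 1, 0, 0, 2, 0, 0, 2])]

theorem T1_ok : ∀ p ∈ T1, wordN 100 [wd p.1, x1, x2] p.2 = wd [0] := by decide +kernel

theorem big1 (hX : X ≤ pc.gen gs) (hQ : pc.gen [x1, x2] ≤ X) (h : 900 < Nat.card X) : pc.gen gs ≤ X := by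
  by_contra hn
  have hv : ∀ g ∈ [x1, x2], pc.Valid g := fun g hg => (q5_inH g hg).1
  have key : ∀ g ∈ pc.gen gs, g * pc.dec x1 * g⁻¹ ∈ X →
      toCj (g * pc.dec x1 * g⁻¹) ∈ orbit (pc.gen n5) (toCj (pc.dec x1)) := fun g hg hx => by
    obtain ⟨w, hw, n, hn', e⟩ := reps (fun g hg => (n5_inH g hg).1)
      (W := [4, 2, 3, 2] :: [0, 4, 2, 1, 2, 0, 4, 3, 0, 2, 1] :: T1.map (·.1)) (by decide +kernel) hg
    have a := Coding.gen_le n5_inH hn'
    have b : pc.gen [x1, x2] ≤ cj n X := fun q hq => hQ (norm5.2 n hn' q hq)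
    have c : ∀ g ∈ [x1, x2], pc.InH (cj n X) g := fun g hg => (Coding.inH_gen hv g hg).mono b
    have d : pc.InH (cj n X) (wd w) := ⟨(wd_inH _).1, show n * _ * n⁻¹ ∈ X from e ▸ hx⟩
    simp only [List.mem_cons] at hw
    rcases hw with rfl | rfl | hw
    · exact mem_orbit_toCj.2 ⟨n, hn', e⟩
    · exact (hn (le_of_cj a (big2 (cj_le a hX) (Coding.gen_le (inH_of_words (List.forall_mem_cons.2 ⟨d, c⟩)
        [[1], [2], [2, 0, 2, 1, 0, 0, 0]] (by decide +kernel))) (by rw [card_cj]; omega)))).elim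
    · obtain ⟨p, hp, rfl⟩ := List.mem_map.1 hw
      exact (hn (le_of_cj a (big_of b c d (w := p.2) (T1_ok p hp)))).elim
  have h6 : (orbit (pc.gen n5) (toCj (pc.dec x1))).ncard = 6 :=
    Coding.ncard_orbitH pc.conjCode (conjN 100) rfl (fun g hg => (n5_inH g hg).1.impl_conj) x1_inH.1
      (M := 31) (d := 5) (a := 1) (by decide +kernel)
  have m1 := hQ (Coding.inH_gen hv x1 (by simp)).2
  have m2 := hQ (Coding.inH_gen hv x2 (by simp)).2
  have e2 : pc.dec x2 = pc.dec (wd [3]) * pc.dec x1 * (pc.dec (wd [3]))⁻¹ :=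
    (congrArg pc.dec (by decide +kernel)).trans ((wd_inH [3]).1.conj x1_inH.1).2
  have a := card_le_orbit (C := X ⊓ centralizer {pc.dec x1}) h6.le
    (fun g hg => key g (hX hg) (mul_mem (mul_mem hg m1) (inv_mem hg))) le_rfl
  have b := card_le_orbit (X := X ⊓ centralizer {pc.dec x1}) (x := pc.dec x2) h6.le (fun g hg => by
    have hg1 : g ∈ X := hg.1
    have := key (g * pc.dec (wd [3])) (mul_mem (hX hg.1) (wd_inH _).2) (by
      simpa only [e2, mul_assoc, mul_inv_rev] using mul_mem (mul_mem hg1 m2) (inv_mem hg1))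
    simpa only [e2, mul_assoc, mul_inv_rev] using this) (inf_le_inf_right _ (inf_le_inf_right _ hX))
  rw [card_C12] at b
  omega

theorem big0 (hX : X ≤ pc.gen gs) (h5 : 25 ∣ Nat.card X) (h : 900 < Nat.card X) : pc.gen gs ≤ X := by
  have : Fact (Nat.Prime 5) := ⟨by norm_num⟩
  obtain ⟨A, hA⟩ := Sylow.exists_subgroup_card_pow_prime 5 (n := 2) h5
  have hA' : A.map X.subtype ≤ pc.gen gs := (map_subtype_le A).trans hX
  obtain ⟨σ, hσ⟩ := conjTo_of_card (A := (A.map X.subtype).subgroupOf (pc.gen gs)) (Coding.gen_le q5_inH)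
    (p := 5) (k := 2) (m := 24192) (by norm_num) norm5.1 card_gen (by norm_num)
    (by rw [Golay.card_subgroupOf, inf_eq_right.2 hA', card_map_of_injective (subtype_injective _), hA])
  exact le_of_cj hσ.mem (big1 (cj_le hσ.mem hX) (fun k hk => map_subtype_le A (hσ.conj_mem hk))
    (by rw [card_cj]; exact h))

/-- the version for an abstract copy of the Hall–Janko group. -/
theorem eq_top {Γ : Type*} [Group Γ] (e : pc.gen gs ≃* Γ) {X : Subgroup Γ} (h5 : 25 ∣ Nat.card X)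
    (h : 900 < Nat.card X) : X = ⊤ := by
  let f := (pc.gen gs).subtype.comp e.symm.toMonoidHom
  have hf : Function.Injective f := (subtype_injective _).comp e.symm.injective
  have c := card_map_of_injective (K := X) hf
  have := big0 (X := X.map f) (by rintro _ ⟨g, -, rfl⟩; exact (e.symm g).2) (c ▸ h5) (c ▸ h)
  exact eq_top_iff.2 fun g _ => (mem_map_iff_mem hf).1 (this (e.symm g).2)

end Cfsg.Lib.J2.Five
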