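/-
Simplicity of the 2-fusion system of a group with an involution centraliser `Q.L`, `Q` extraspecial, `L` simple.
-/
import Cfsg.Agent.Lib.J2.Cent
import Cfsg.Agent.Lib.Fus.SimpleG2
import Cfsg.Agent.Lib.Fus3.PermCert

set_option autoImplicit false
set_option maxRecDepth 100000

namespace Cfsg.Lib.J2

open Subgroup MulAction Cfsg.Lib.Golay Cfsg.Lib.Known2 Cfsg.Lib.Fus Cfsg.Lib.Amalg

section
variable {Γ G M : Type*} [Group Γ] [Group G] [Group M] {C Q : Subgroup Γ} {z : Γ} {φ : C →* M}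

theorem mem_of_ker (hk : φ.ker.map C.subtype = Q) {g : C} : (g : Γ) ∈ Q ↔ φ g = 1 := by
  rw [← hk]; exact mem_map_iff_mem C.subtype_injective

theorem le_of_ker (hk : φ.ker.map C.subtype = Q) : Q ≤ C := hk ▸ map_subtype_le _

theorem conj_mem_of_ker (hk : φ.ker.map C.subtype = Q) {g x : Γ} (hg : g ∈ C) (hx : x ∈ Q) : g * x * g⁻¹ ∈ Q := by
  have := (mem_of_ker hk (g := ⟨x, le_of_ker hk hx⟩)).1 hx
  exact (mem_of_ker hk (g := ⟨g, hg⟩ * ⟨x, le_of_ker hk hx⟩ * ⟨g, hg⟩⁻¹)).2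
    (by rw [map_mul, map_mul, this, mul_one, ← map_mul, mul_inv_cancel, map_one])

variable [IsSimpleGroup M] (hφ : Function.Surjective φ) (hk : φ.ker.map C.subtype = Q)
include hφ hk

theorem le_or_cover {K : Subgroup Γ} (hK : K ≤ C) (hn : ∀ g ∈ C, ∀ x ∈ K, g * x * g⁻¹ ∈ K) :
    K ≤ Q ∨ ∀ g ∈ C, ∃ k ∈ K, k⁻¹ * g ∈ Q := by
  have h : (K.subgroupOf C).Normal := ⟨fun x hx g => hn g g.2 x hx⟩
  refine ((h.map φ hφ).eq_bot_or_eq_top).imp (fun e x hx => (mem_of_ker hk (g := ⟨x, hK hx⟩)).2 ?_) fun e g hg => ?_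
  · exact mem_bot.1 (e ▸ mem_map_of_mem φ (show (⟨x, hK hx⟩ : C) ∈ K.subgroupOf C from hx))
  · obtain ⟨k, h1, h2⟩ := e.ge (mem_top (φ ⟨g, hg⟩))
    exact ⟨k, h1, (mem_of_ker hk (g := k⁻¹ * ⟨g, hg⟩)).2 (by simp [h2])⟩

theorem cent_or (hQ : ES Q z) : C ⊓ centralizer (Q : Set Γ) ≤ Q ∨
    ∀ c ∈ C, ∃ y ∈ Q, ∀ q ∈ Q, c * q * c⁻¹ = y * q * y⁻¹ := by
  refine (le_or_cover hφ hk inf_le_left fun g hg x hx =>
    ⟨C.mul_mem (C.mul_mem hg hx.1) (C.inv_mem hg), fun q hq => ?_⟩).imp_right fun h c hc => ?_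
  · have := hx.2 _ (conj_mem_of_ker hk (inv_mem hg) hq)
    calc q * (g * x * g⁻¹) = g * (g⁻¹ * q * g⁻¹⁻¹ * x) * g⁻¹ := by group
      _ = _ := by rw [this]; group
  · obtain ⟨k, h1, h2⟩ := h c hc
    refine ⟨_, h2, fun q hq => ?_⟩
    have := h1.2 _ (mul_mem (mul_mem h2 hq) (inv_mem h2))
    calc c * q * c⁻¹ = k * (k⁻¹ * c * q * (k⁻¹ * c)⁻¹) * k⁻¹ := by group
      _ = _ := by rw [← this]; group

theorem simple_of_ext {H U : Subgroup Γ} [Finite H] (e : H ≃* G) (hU : Syl 2 U H) (hC : C = H ⊓ centralizer {z})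
    (hQ : ES Q z) (hQU : Q < U) (hc : C ⊓ centralizer (Q : Set Γ) ≤ Q) (h2 : ∀ T, SCl H U T → z ∈ T → U ≤ T)
    (S : Sylow 2 G) : (groupFusionSystem (S : Subgroup G)).IsSimple 2 := by
  have := hU.finite
  have : Finite Q := Finite.Set.subset _ hQU.le
  have c1 : H ⊓ centralizer (Q : Set Γ) ≤ Q := fun x hx =>
    hc ⟨hC ▸ ⟨hx.1, mem_centralizer_singleton_iff.2 (hx.2 z hQ.mem).symm⟩, hx.2⟩
  have c2 : ∀ x ∈ U, x ≠ 1 → (∀ s ∈ U, s * x = x * s) → x = z := fun x hx h1 h =>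
    (hQ.of_cen x (c1 ⟨hU.le hx, fun y hy => h y (hQU.le hy)⟩) fun y hy => (h y (hQU.le hy)).symm).resolve_left h1
  have c3 : ∀ T, SCl H U T → T ≠ ⊥ → z ∈ T ∧ ∀ s ∈ U, s * z = z * s := fun T hT h0 => by
    have : Finite T := Finite.Set.subset _ hT.1
    obtain ⟨x, a1, a2, a3⟩ := exists_central_mem hU.isPGroup hT.1 (fun g hg => mem_normalizer_of_conj_mem_finite
      fun x hx => hT.2 x hx g (hU.le hg) (mul_mem (mul_mem hg (hT.1 hx)) (inv_mem hg))) h0
    exact c2 x (hT.1 a1) a2 a3 ▸ ⟨a1, a3⟩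
  have c4 := (c3 U ⟨le_rfl, fun _ _ _ _ h => h⟩ hQU.ne_bot).2
  have c5 : C ≤ pGen 2 H Q := by
    have n : ∀ g ∈ C, g ∈ normalizer (Q : Set Γ) := fun g hg =>
      mem_normalizer_of_conj_mem_finite fun x hx => conj_mem_of_ker hk hg hx
    have m : U ≤ C ⊓ pGen 2 H Q := fun x hx => by
      have : x ∈ C := hC ▸ ⟨hU.le hx, mem_centralizer_singleton_iff.2 (c4 x hx)⟩
      exact ⟨this, mem_pGen (hU.le hx) (n x this) (isPGroup_iff_mem.1 hU.isPGroup x hx)⟩
    have k : ∀ g ∈ C, pGen 2 H Q ≤ (pGen 2 H Q).comap (MulAut.conj g).toMonoidHom := fun g hg => (closure_le _).2 (by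
      rintro y ⟨b1, b2, k, b3⟩
      exact mem_pGen (g := g * y * g⁻¹) (H.mul_mem (H.mul_mem (hC.le hg).1 b1) (H.inv_mem (hC.le hg).1))
        (mul_mem (mul_mem (n g hg) b2) (inv_mem (n g hg))) ⟨k, by rw [conj_pow, b3]; simp⟩)
    rcases le_or_cover hφ hk (K := C ⊓ pGen 2 H Q) inf_le_left (fun g hg x hx =>
      ⟨C.mul_mem (C.mul_mem hg hx.1) (C.inv_mem hg), k g hg hx.2⟩) with h | h
    · exact absurd (m.trans h) hQU.not_ge
    · intro g hg
      obtain ⟨k, a1, a2⟩ := h g hg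
      simpa using mul_mem a1.2 (m (hQU.le a2)).2
  refine simple_of_data₂ e hU hQU.ne_bot (fun T hT h0 => h2 T hT (c3 T hT h0).1) le_rfl
    (fun x hx => hQU.le (c1 ⟨hx.1, fun y hy => hx.2 y (hQU.le hy)⟩)) (fun K hK g hg => hK Q hQU.le c1 ⟨c5 ?_, hg.2⟩) S
  refine hC ▸ ⟨hg.1, mem_centralizer_singleton_iff.2 (mul_inv_eq_iff_eq_mul.1 (c2 _
    (conj_mem_of_mem_normalizer hg.2 (hQU.le hQ.mem)) (by simpa using hQ.ne) fun s hs => ?_))⟩
  have := c4 _ (conj_mem_of_mem_normalizer (inv_mem hg.2) hs)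
  calc s * (g * z * g⁻¹) = g * (g⁻¹ * s * g⁻¹⁻¹ * z) * g⁻¹ := by group
    _ = _ := by rw [this]; group

end

/-- generators of a Sylow 2-subgroup. -/
def us : List ℕ := [0x3f6225064c590431135a5e4b484627365320391d4f0112090a563a63160d1a4534405118575f2e145b2a0f4719075237265803302b3d2d4d3c23422461155528493344080554000e38214329501b222f02105c2c411f4a0c0b323e351e601c5d113b4e17,
  0x4f625e5d51616052545a55585356595b575c5f5063283543492a4b2d33292c364c423732303c253e263a2f3141444d2b4740383f39274845344a464e2e3b3d24182015221f16171c121119231d1e2114101b1a130f0e0a0b0c0d09070806050402030100,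
  0x570b61601a305d49430c2d4d632655293d2f161f2e240d1b152c074839124c51081e455c3f474f5b1411215f523a193b4633425902535e4b35540301250a274e31583e3400230550410f13360e094a202b321856381d225a6210443c400617042a37281c]

theorem us_inH : ∀ g ∈ us, pc.InH Cz g :=
  inH_of_words cs_inH [[1, 0], [0, 1, 0, 1], [0, 1, 1, 0, 0, 1, 1, 0, 0]] (by decide +kernel)

theorem us_valid : ∀ g ∈ us, pc.Valid g := fun g hg => (us_inH g hg).1

theorem card_us : Nat.card (pc.gen us) = 128 :=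
  Coding.card_gen us_valid (M := 251) (d := 8) (a := 5) (by decide +kernel)

theorem syl_us : Syl 2 (pc.gen us) (pc.gen gs) := by
  have h : pc.gen us ≤ pc.gen gs := (Coding.gen_le us_inH).trans inf_le_left
  refine syl_of_not_dvd h (IsPGroup.of_card (n := 7) card_us) fun hd => ?_
  have := (pc.gen us).subgroupOf (pc.gen gs) |>.card_mul_index
  rw [card_subgroupOf, inf_of_le_right h, card_us, card_gen] at this
  unfold relIndex at hd
  omega

theorem qs_lt : pc.gen qs < pc.gen us := by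
  refine lt_of_le_of_ne (Coding.gen_le (inH_of_words (Coding.inH_gen us_valid)
    [[2, 1, 2], [0, 0], [1], [0, 2, 1, 2, 0]] (by decide +kernel))) fun e => ?_
  have := es_Q.1
  rw [e, card_us] at this
  omega

theorem cent_Q : Cz ⊓ centralizer (pc.gen qs : Set (Equiv.Perm (Fin 100))) ≤ pc.gen qs := by
  obtain ⟨φ, h1, h2⟩ := hom_Cz
  refine (cent_or h1 h2 es_Q.2).resolve_right fun h => ?_
  have a := cs_inH _ List.mem_cons_self
  have b := Coding.inH_gen (fun g hg => (qs_inH g hg).1) _ List.mem_cons_self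
  obtain ⟨y, hy, h⟩ := h _ a.2
  have := es_Q.2.conj_eq hy b.2
  rw [← h _ b.2, ← (a.1.conj b.1).2, ← b.1.dec_mul z1_valid, (a.1.conj b.1).1.dec_inj b.1,
    (a.1.conj b.1).1.dec_inj (b.1.mul z1_valid)] at this
  revert this; decide +kernel

theorem scl_us (T : Subgroup (Equiv.Perm (Fin 100))) (hT : SCl (pc.gen gs) (pc.gen us) T) (hz : pc.dec z1 ∈ T) :
    pc.gen us ≤ T :=
  genCert_spec us_valid hT (fin := [[4, 2, 1, 0, 2], [3, 1, 2, 1], [3, 0]])
    (steps := [(0x636261605b0e065c5f0c0558570a55035009025300244d474223493f4c183e2f1a4b214048451f382b321b3c16121413113a2c1d441c17313b292a282710254e4a2241193d15302e394320462d371e3534363326085e0d5a0b56520f075d59045451014f, [0], [0, 0]),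
      (0x63545660555e505a5b5c574f59615f625152535d5845374c2642304428314e483a4a27393b2d38363f43403d4d3c2e322c3446492b353e332f2a2547414b29171019212012141d151b13221124161c1e1a1f18230f0b090c0e0a0d040702050803060100, [1], [2, 0, 1, 2, 0]),
      (0x54040a575e0d63095f60580003505651070f59065c271139202b132a383b1a424c1f4514291b4d21311c3e23473a1e2d441918494122401630343525103626282e1243154e3248243c4b173d3f4a2f1d2c374633050c5361554f0e0802625a0b525b015d, [1, 0], [1, 0, 1, 2, 0, 0]),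
      (0x295526631e07573b39615c462a3210200d3e314e58011f5f515216034c0941173811082f545b494359360f1d3c535e4b35024f4d1a4022134a374428561c0a25122e210e06505a5d472d42330c3014230534003d2c3f3a6004181545190b48622b1b2724, [2, 1], [2, 0, 0])])
    (inH_of_words gs_inH [[4], [1, 2, 1], [1, 2, 0, 4, 2], [2, 4, 0, 2, 3, 4]] (by decide +kernel))
    (cur := [z1]) (fun y hy => by rw [List.mem_singleton.mp hy]; exact ⟨z1_valid, hz⟩) (by decide +kernel)

theorem fusion_simple {G : Type*} [Group G] (e : Spor.J2 ≃* G) (S : Sylow 2 G) :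
    (groupFusionSystem (S : Subgroup G)).IsSimple 2 := by
  obtain ⟨φ, h1, h2⟩ := hom_Cz
  obtain ⟨f, -⟩ := equiv100
  exact simple_of_ext h1 h2 (f.symm.trans e) syl_us rfl es_Q.2 qs_lt cent_Q scl_us S

end Cfsg.Lib.J2
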