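/-
Simplicity of the 2-fusion system of a group with one class of involutions and centraliser `2^{1+4} : A₅`.
-/
import Cfsg.Agent.Lib.J2.Fus
import Cfsg.Agent.Lib.PGrp.Critical

set_option autoImplicit false
set_option maxRecDepth 100000

namespace Cfsg.Lib.J2

open Subgroup Cfsg.Lib.Golay Cfsg.Lib.Known2 Cfsg.Lib.Fus Cfsg.Lib.Amalg

theorem a5_sq (x : alternatingGroup (Fin 5)) (h : x ^ 128 = 1) : x * x = 1 :=
  Subtype.ext ((by decide +kernel : ∀ x : Equiv.Perm (Fin 5), Equiv.Perm.sign x = 1 → x ^ 128 = 1 → x * x = 1) x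
    (Equiv.Perm.mem_alternatingGroup.1 x.2) (congrArg Subtype.val h))

theorem a5_comm : ∃ a b : alternatingGroup (Fin 5), a * b * a⁻¹ * b⁻¹ ≠ 1 ∧ (a * b * a⁻¹ * b⁻¹) ^ 2 = 1 :=
  ⟨⟨Equiv.swap 0 1 * Equiv.swap 0 2, Equiv.Perm.mem_alternatingGroup.2 (by decide)⟩,
    ⟨Equiv.swap 0 1 * Equiv.swap 2 3, Equiv.Perm.mem_alternatingGroup.2 (by decide)⟩, by decide, by decide⟩

theorem dv (n : ℕ) (h1 : n ∣ 32) (h2 : n % 5 = 2) : n = 2 ∨ n = 32 := by
  have := Nat.le_of_dvd (by norm_num) h1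
  interval_cases n <;> simp_all

theorem es_map {A G : Type*} [Group A] [Group G] (f : A →* G) (hf : Function.Injective f) {N : Subgroup A}
    {z : A} (h : ES N z) : ES (N.map f) (f z) := by
  refine es_of (mem_map_of_mem f h.mem) (fun e => h.ne (hf (e.trans (map_one f).symm)))
    (by rw [← map_mul, h.sq, map_one]) ?_ ?_ ?_ ?_
  · rintro _ ⟨x, hx, rfl⟩; rw [← map_mul, h.cen x hx, map_mul]
  · rintro _ ⟨x, hx, rfl⟩ hc
    exact (h.of_cen x hx fun y hy => hf (by simpa only [map_mul] using hc _ (mem_map_of_mem f hy))).imp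
      (fun e => by rw [e, map_one]) fun e => by rw [e]
  · rintro _ ⟨x, hx, rfl⟩
    exact (h.sq_mem x hx).imp (fun e => by rw [← map_mul, e, map_one]) fun e => by rw [← map_mul, e]
  · obtain ⟨x, hx, y, hy, k⟩ := h.nonab
    exact ⟨_, mem_map_of_mem f hx, _, mem_map_of_mem f hy, fun e => k (hf (by simpa only [map_mul] using e))⟩

/-- the hypotheses on the centraliser `C = Q : K` of the involution `t`. -/
structure CzD {G : Type*} [Group G] (t : G) (C Q K : Subgroup G) (φ : C →* alternatingGroup (Fin 5)) : Prop where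
  hC : C = centralizer {t}
  hφ : Function.Surjective φ
  hk : φ.ker.map C.subtype = Q
  hQ : ES Q t
  h32 : Nat.card Q = 32
  hK : K ≤ C
  hKQ : ∀ k ∈ K, k ∈ Q → k = 1
  hd : ∀ c ∈ C, ∃ q ∈ Q, ∃ k ∈ K, c = q * k

namespace CzD

variable {G : Type*} [Group G] [Finite G] {t : G} {C Q K U : Subgroup G} {φ : C →* alternatingGroup (Fin 5)}
  (d : CzD t C Q K φ)
include d

theorem cC : Nat.card C = 1920 := by
  have hL : Nat.card (alternatingGroup (Fin 5)) = 60 := by rw [nat_card_alternatingGroup]; simp; rfl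
  rw [card_eq_range_mul_ker φ, MonoidHom.range_eq_top.2 d.hφ, card_top, hL, ← card_subtype, d.hk, d.h32]

omit [Finite G] in
theorem ct (c : G) (hc : c ∈ C) : c * t = t * c := mem_centralizer_singleton_iff.1 (d.hC ▸ hc)

theorem nQ : C ≤ normalizer (Q : Set G) := fun _ hg =>
  mem_normalizer_of_conj_mem_finite fun _ hx => conj_mem_of_ker d.hk hg hx

theorem cU (hU : Syl 2 U C) : Nat.card U = 128 := by
  rw [hU.card_eq_pow, d.cC, show 1920 = 2 ^ 7 * 15 from rfl, Nat.factorization_mul (by norm_num) (by norm_num),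
    Nat.prime_two.factorization_pow, Finsupp.add_apply, Finsupp.single_eq_same,
    Nat.factorization_eq_zero_of_not_dvd (by norm_num)]; rfl

theorem QU (hU : Syl 2 U C) : Q ≤ U := hU.le_of_normal d.hQ.isPGroup (le_of_ker d.hk) d.nQ

theorem sq (hU : Syl 2 U C) (u : C) (hu : u.1 ∈ U) : φ u * φ u = 1 := a5_sq _ (by
  have : u.1 ^ 128 = 1 := congrArg Subtype.val (d.cU hU ▸ pow_card_eq_one' : (⟨u.1, hu⟩ : U) ^ 128 = 1)
  rw [← map_pow, show u ^ 128 = 1 from Subtype.ext this, map_one])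

theorem ab (hU : Syl 2 U C) (u v : C) (hu : u.1 ∈ U) (hv : v.1 ∈ U) : φ (u * v * u⁻¹ * v⁻¹) = 1 := by
  have := d.sq hU (u * v) (mul_mem hu hv)
  rwa [map_mul, map_mul, map_mul, map_inv, map_inv, inv_eq_of_mul_eq_one_right (d.sq hU u hu),
    inv_eq_of_mul_eq_one_right (d.sq hU v hv), mul_assoc, ← map_mul]

omit [Finite G] in
theorem iK (k : C) (h1 : k.1 ∈ K) (h2 : φ k = 1) : k = 1 := Subtype.ext (d.hKQ k h1 ((mem_of_ker d.hk).2 h2))

variable (hcj : ∀ x y : G, orderOf x = 2 → orderOf y = 2 → IsConj x y)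
include hcj

theorem hc : C ⊓ centralizer (Q : Set G) ≤ Q := by
  obtain ⟨hC, hφ, hk, hQ, h32, hK, hKQ, hd⟩ := id d
  refine (cent_or hφ hk hQ).resolve_right fun h => ?_
  have sK : ∀ a, ∃ k : C, k.1 ∈ K ∧ φ k = a := fun a => by
    obtain ⟨c, rfl⟩ := hφ a
    obtain ⟨q, hq, k, h1, e⟩ := hd c c.2
    refine ⟨⟨k, hK h1⟩, h1, ?_⟩
    rw [show c = ⟨q, le_of_ker hk hq⟩ * ⟨k, hK h1⟩ from Subtype.ext e, map_mul,
      (mem_of_ker hk (g := ⟨q, le_of_ker hk hq⟩)).1 hq, one_mul]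
  obtain ⟨a, b, h1, h2⟩ := a5_comm
  obtain ⟨a, ha, rfl⟩ := sK a
  obtain ⟨b, hb, rfl⟩ := sK b
  obtain ⟨v, hv⟩ : ∃ v, v = a * b * a⁻¹ * b⁻¹ := ⟨_, rfl⟩
  have vK : v.1 ∈ K := hv ▸ mul_mem (mul_mem (mul_mem ha hb) (inv_mem ha)) (inv_mem hb)
  rw [← map_inv, ← map_inv, ← map_mul, ← map_mul, ← map_mul, ← hv] at h1 h2
  have v2 : v ^ 2 = 1 := d.iK _ (pow_mem vK 2) (by rw [map_pow, h2])
  have vQ : ∀ q ∈ Q, v.1 * q * v.1⁻¹ = q := fun q hq => by
    obtain ⟨x, hx, ex⟩ := h a a.2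
    obtain ⟨y, hy, ey⟩ := h b b.2
    obtain ⟨r, hr, rfl⟩ : ∃ r ∈ Q, q = b.1 * (a.1 * r * a.1⁻¹) * b.1⁻¹ := ⟨_, conj_mem_of_ker hk
      (C.inv_mem a.2) (conj_mem_of_ker hk (C.inv_mem b.2) hq), by group⟩
    have e1 : v.1 * (b.1 * (a.1 * r * a.1⁻¹) * b.1⁻¹) * v.1⁻¹ = a.1 * (b.1 * r * b.1⁻¹) * a.1⁻¹ := by
      rw [hv]; push_cast; group
    rw [e1, ey r hr, ex r hr, ex _ (mul_mem (mul_mem hy hr) (inv_mem hy)),
      ey _ (mul_mem (mul_mem hx hr) (inv_mem hx))]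
    rcases hQ.comm x hx y hy with e | e
    · calc _ = (x * y) * r * (x * y)⁻¹ := by group
        _ = _ := by rw [e]; group
    · calc _ = (x * y) * r * (x * y)⁻¹ := by group
        _ = y * x * (t * r) * t⁻¹ * (y * x)⁻¹ := by rw [e]; group
        _ = _ := by rw [← hQ.cen r hr]; group
  obtain ⟨U, hU, vU⟩ := exists_syl_ge (isPGroup_zpowers_of_pow (p := 2) (k := 1) (x := v.1)
    (congrArg Subtype.val v2)) (zpowers_le_of_mem v.2)
  replace vU := vU (mem_zpowers _)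
  have vc : ∀ u ∈ U, u * v.1 * u⁻¹ = v := fun u hu => by
    obtain ⟨q, hq, k, h3, rfl⟩ := hd u (hU.le hu)
    have kU : k ∈ U := by simpa using mul_mem (inv_mem (d.QU hU hq)) hu
    have := congrArg Subtype.val (d.iK _ (mul_mem (mul_mem (mul_mem h3 vK) (inv_mem h3)) (inv_mem vK))
      (d.ab hU ⟨k, hK h3⟩ v kU vU))
    calc q * k * v.1 * (q * k)⁻¹ = q * (k * v.1 * k⁻¹ * v.1⁻¹) * (v.1 * q⁻¹ * v.1⁻¹) * v.1 := by group
      _ = _ := by rw [vQ _ (inv_mem hq)]; exact (congrArg (q * · * q⁻¹ * v.1) this).trans (by simp)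
  obtain ⟨g, hg⟩ := isConj_iff.1 (hcj v t (orderOf_eq_prime (congrArg Subtype.val v2) fun e =>
    h1 (by rw [show v = 1 from Subtype.ext e, map_one])) hQ.orderOf_eq)
  have gU : cj g U ≤ C := by
    rintro _ ⟨u, hu, rfl⟩
    refine hC ▸ mem_centralizer_singleton_iff.2 ?_
    calc g * u * g⁻¹ * t = g * (u * v.1 * u⁻¹) * u * g⁻¹ := by rw [← hg]; group
      _ = _ := by rw [vc u hu, ← hg]; simp [mul_assoc]
  obtain ⟨c, hc, e⟩ := (hU.of_card_ge (hU.isPGroup.map _) gU (Nat.card_congr (cjEquiv g U).toEquiv).le).exists_conj hU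
  have m : ∀ x ∈ Q, (c * g)⁻¹ * x * (c * g) ∈ U := fun x hx => by
    simpa [mul_assoc] using mem_cj.1 (mem_cj.1 (e.ge (d.QU hU hx)))
  obtain ⟨x, hx, y, hy, n⟩ := hQ.nonab
  refine h1 ((congrArg φ (Subtype.ext ?_)).trans
    (d.ab hU ⟨_, hU.le (m x hx)⟩ ⟨_, hU.le (m y hy)⟩ (m x hx) (m y hy)))
  have e2 : x * y * x⁻¹ * y⁻¹ = c * t * c⁻¹ := by
    rw [d.ct c hc, hQ.anti hx hy n, mul_assoc (y * x), ← hQ.cen _ (inv_mem hx), mul_inv_cancel_right, ← mul_assoc,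
      mul_inv_cancel_right, hQ.cen y hy, mul_inv_cancel_right]
  calc v.1 = (c * g)⁻¹ * (c * t * c⁻¹) * (c * g) := by rw [← hg]; group
    _ = _ := by rw [← e2]; push_cast; group

theorem scl_Q (hU : Syl 2 U C) {T : Subgroup G} (hT : SCl ⊤ U T) (ht : t ∈ T) (iT : ∀ k ∈ K, k ∈ U → k ∈ T) :
    Q ≤ T := by
  obtain ⟨hC, hφ, hk, hQ, h32, hK, hKQ, hd⟩ := id d
  have QU' : Q < U := lt_of_le_of_ne (d.QU hU) fun e => by have := d.cU hU; rw [← e, h32] at this; omega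
  have nN : ∀ g ∈ C, ∀ x ∈ T ⊓ Q, g * x * g⁻¹ ∈ T ⊓ Q := fun g hg x hx =>
    ⟨hT.2 x hx.1 g (mem_top _) (QU'.le (conj_mem_of_ker hk hg hx.2)), conj_mem_of_ker hk hg hx.2⟩
  have : Fact (Nat.Prime 5) := ⟨by norm_num⟩
  obtain ⟨g, g5⟩ := exists_prime_orderOf_dvd_card' (G := C) 5 (by rw [d.cC]; norm_num)
  rw [← orderOf_coe] at g5
  have gQ : ∀ i, ¬ 5 ∣ i → ¬ ∀ q ∈ Q, q * g.1 ^ i = g.1 ^ i * q := fun i hi h => by
    have := orderOf_dvd_natCard (⟨_, d.hc hcj ⟨pow_mem g.2 i, h⟩⟩ : Q)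
    rw [← orderOf_coe, h32, (show (orderOf g.1).Coprime i from g5 ▸ (Nat.Prime.coprime_iff_not_dvd (by norm_num)).2
      hi).orderOf_pow, g5] at this
    omega
  have hA : IsPGroup 5 (zpowers g.1) := isPGroup_zpowers_of_orderOf (k := 1) g5
  have m1 := PGrp.card_modEq_card_inf_centralizer hA ((zpowers_le_of_mem g.2).trans d.nQ)
  have c1 : Nat.card ↥(Q ⊓ centralizer (zpowers g.1 : Set G)) = 2 :=
    (dv _ (h32 ▸ card_dvd_of_le inf_le_left) (by rw [← m1, h32])).resolve_right fun e => gQ 1 (by norm_num)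
      fun q hq => (((eq_of_le_of_card_ge (H := Q ⊓ centralizer (zpowers g.1 : Set G)) inf_le_left
        (by rw [e, h32])).ge.trans inf_le_right) hq _ (pow_mem (mem_zpowers _) 1)).symm
  have tA : t ∈ centralizer (zpowers g.1 : Set G) := fun x hx => d.ct x (zpowers_le_of_mem g.2 hx)
  have z2 : ∀ X : Subgroup G, t ∈ X → Nat.card X ≤ 2 → zpowers t = X := fun X h1 h2 =>
    eq_of_le_of_card_ge (zpowers_le_of_mem h1) (by rwa [Nat.card_zpowers, hQ.orderOf_eq])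
  have m2 := PGrp.card_modEq_card_inf_centralizer hA (H := T ⊓ Q) fun x hx =>
    mem_normalizer_of_conj_mem_finite (nN x (zpowers_le_of_mem g.2 hx))
  rw [← z2 _ (mem_inf.2 ⟨mem_inf.2 ⟨ht, hQ.mem⟩, tA⟩) (c1 ▸ card_le_of_le (inf_le_inf_right _ inf_le_right)), Nat.card_zpowers,
    hQ.orderOf_eq] at m2
  rcases dv _ (h32 ▸ card_dvd_of_le (inf_le_right (a := T))) m2 with e | e
  swap
  · exact (eq_of_le_of_card_ge (inf_le_right (a := T)) (by rw [e, h32])).ge.trans inf_le_left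
  exfalso
  let D : Subgroup G :=
    { carrier := {c | c ∈ C ∧ ∀ q ∈ Q, c * q * c⁻¹ * q⁻¹ ∈ T ⊓ Q}
      one_mem' := ⟨one_mem _, fun q _ => by simp⟩
      mul_mem' := fun {a b} ha hb => ⟨mul_mem ha.1 hb.1, fun q hq => by
        convert mul_mem (nN a ha.1 _ (hb.2 q hq)) (ha.2 q hq) using 1; group⟩
      inv_mem' := fun {a} ha => ⟨inv_mem ha.1, fun q hq => by
        convert nN _ (inv_mem ha.1) _ (inv_mem (ha.2 q hq)) using 1; group⟩ }
  have QD : Q ≤ D := fun x hx => ⟨le_of_ker hk hx, fun q hq =>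
    (zpowers_le_of_mem (H := T ⊓ Q) ⟨ht, hQ.mem⟩) (hQ.commutator_mem hx hq)⟩
  rcases le_or_cover hφ hk (K := D) (fun x hx => hx.1) (fun a ha x hx => ⟨mul_mem (mul_mem ha hx.1) (inv_mem ha),
    fun q hq => by convert nN a ha _ (hx.2 _ (conj_mem_of_ker hk (inv_mem ha) hq)) using 1; group⟩) with h | h
  · obtain ⟨u, hu, hu'⟩ := SetLike.exists_of_lt QU'
    obtain ⟨q, hq, k, h3, rfl⟩ := hd u (hU.le hu)
    have kT := iT k h3 (by simpa using mul_mem (inv_mem (QU'.le hq)) hu)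
    refine hu' (mul_mem hq (h ⟨hK h3, fun r hr =>
      mem_inf.2 ⟨?_, Q.mul_mem (conj_mem_of_ker hk (hK h3) hr) (Q.inv_mem hr)⟩⟩))
    have := mul_mem kT (hT.2 _ (inv_mem kT) r (mem_top _)
      (mul_mem (mul_mem (QU'.le hr) (inv_mem (hT.1 kT))) (inv_mem (QU'.le hr))))
    simpa only [mul_assoc] using this
  obtain ⟨k, a1, a2⟩ := h g g.2
  have gD : g.1 ∈ D := by simpa using mul_mem a1 (QD a2)
  refine gQ 2 (by norm_num) fun q hq => ?_
  have := gD.2 q hq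
  rw [← z2 _ (mem_inf.2 ⟨ht, hQ.mem⟩) e.le, hQ.mem_zp, mul_inv_eq_one, mul_inv_eq_iff_eq_mul, mul_inv_eq_iff_eq_mul,
    mul_inv_eq_iff_eq_mul] at this
  rcases this with h | h
  · rw [pow_two, ← mul_assoc, ← h, mul_assoc, ← h, mul_assoc]
  · symm
    calc g.1 ^ 2 * q = g.1 * (g.1 * q) := by rw [pow_two, mul_assoc]
      _ = g.1 * t * q * g.1 := by rw [h]; group
      _ = t * (g.1 * q) * g.1 := by rw [d.ct _ g.2]; group
      _ = t * t * q * g.1 ^ 2 := by rw [h, pow_two]; simp only [mul_assoc]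
      _ = _ := by rw [hQ.sq, one_mul]

theorem simple {m : ℕ} (hG : Nat.card G = 128 * m) (hm : ¬ 2 ∣ m) (S : Sylow 2 G) :
    (groupFusionSystem (S : Subgroup G)).IsSimple 2 := by
  obtain ⟨hC, hφ, hk, hQ, h32, hK, hKQ, hd⟩ := id d
  obtain ⟨U, hU⟩ := exists_syl 2 C
  have QU' : Q < U := lt_of_le_of_ne (d.QU hU) fun e => by have := d.cU hU; rw [← e, h32] at this; omega
  refine simple_of_ext hφ hk topEquiv (hU.of_le_of_not_dvd le_top fun h => ?_) (by rw [hC, top_inf_eq]) hQ QU' (d.hc hcj)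
    (fun T hT ht => ?_) S
  · have := C.card_mul_index
    rw [relIndex_top_right] at h
    rw [d.cC, hG] at this
    omega
  have iT : ∀ k ∈ K, k ∈ U → k ∈ T := fun k h1 h2 => by
    rcases eq_or_ne k 1 with rfl | h
    · exact one_mem _
    obtain ⟨g, rfl⟩ := isConj_iff.1 (hcj t k hQ.orderOf_eq (orderOf_eq_prime ((pow_two k).trans (congrArg Subtype.val
      (d.iK (⟨k, hK h1⟩ * ⟨k, hK h1⟩) (mul_mem h1 h1) ((map_mul φ _ _).trans (d.sq hU _ h2))))) h))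
    exact hT.2 t ht g (mem_top _) h2
  intro u hu
  obtain ⟨q, hq, k, h3, rfl⟩ := hd u (hU.le hu)
  exact mul_mem (d.scl_Q hcj hU hT ht iT hq) (iT k h3 (by simpa using mul_mem (inv_mem (QU'.le hq)) hu))

end CzD

theorem simple_of_one_class {G : Type*} [Group G] [Finite G] {m : ℕ} (hG : Nat.card G = 128 * m) (hm : ¬ 2 ∣ m)
    (hcj : ∀ x y : G, orderOf x = 2 → orderOf y = 2 → IsConj x y) {t : G} (ht : orderOf t = 2)
    (Q : Subgroup (centralizer ({t} : Set G))) [Q.Normal] (hQ : IsExtraspecial 2 Q) (h32 : Nat.card Q = 32)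
    {K : Subgroup (centralizer ({t} : Set G))} (hK : Q.IsComplement' K)
    (e : centralizer ({t} : Set G) ⧸ Q ≃* alternatingGroup (Fin 5)) (S : Sylow 2 G) :
    (groupFusionSystem (S : Subgroup G)).IsSimple 2 := by
  let φ := e.toMonoidHom.comp (QuotientGroup.mk' Q)
  have hφ : Function.Surjective φ := e.surjective.comp (QuotientGroup.mk'_surjective Q)
  have hk : φ.ker = Q := by ext x; simp [φ]
  obtain ⟨z, -, hz⟩ := exists_ES hQ
  let s : centralizer ({t} : Set G) := ⟨t, mem_centralizer_singleton_iff.2 rfl⟩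
  have c : ∀ x, x * s = s * x := fun x => Subtype.ext (mem_centralizer_singleton_iff.1 x.2)
  have sQ : s ∈ Q := hk ▸ mem_bot.1 (alternatingGroup.center_eq_bot (α := Fin 5) (by simp) ▸
    mem_center_iff.2 fun y => by obtain ⟨y, rfl⟩ := hφ y; rw [← map_mul, c, map_mul])
  obtain rfl := (hz.of_cen s sQ fun y _ => (c y).symm).resolve_left fun e =>
    ne_one_of_orderOf_two ht (congrArg Subtype.val e)
  refine CzD.simple (K := K.map (Subgroup.subtype _)) ⟨rfl, hφ, rfl, hk ▸ es_map _ (subtype_injective _) hz,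
    by rw [card_subtype, hk, h32], map_subtype_le _, ?_, fun c hc => ?_⟩ hcj hG hm S
  · rintro _ ⟨k, h1, rfl⟩ h2
    rw [hk] at h2
    exact congrArg Subtype.val (disjoint_def.1 hK.disjoint ((mem_map_iff_mem (subtype_injective _)).1 h2) h1)
  · obtain ⟨⟨q, k⟩, h⟩ := hK.2 ⟨c, hc⟩
    exact ⟨_, mem_map_of_mem _ (hk.ge q.2), _, mem_map_of_mem _ k.2, (congrArg Subtype.val h).symm⟩

end Cfsg.Lib.J2
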