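/-
The Hall–Janko group as a point stabiliser of `G₂(4)` on 416 points.
-/
import Cfsg.Agent.Lib.J2.Max
import Cfsg.Agent.Lib.Comp.G24x.Main
import Cfsg.Agent.Lib.Comp.Subst2

set_option autoImplicit false
set_option maxRecDepth 100000

namespace Cfsg.Lib.J2

open Subgroup Cfsg.Lib.Comp

/-- the stabiliser chain of `G₂(4)`. -/
def ch24 : List Lev := [([1,2,3,4,5,6,7],[8,4,5,7,4,6,8,3,7,4,6,1,3,4,7,6],0,0,416),
  ([1,2,3,4,5,6],[7,4,5,1,6,4,3,7,1,6,4,5,6],1,1,100), ([1,2,3,4,5],[6,3,4,5,1,3,4,6,4,5,3],2,2,36),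
  ([1,2,3,4],[5,3,4,1],3,3,7), ([1,2,3],[4,1],17,17,3), ([1,2],[3],104,104,2), ([1],[2],110,110,2),
  ([],[1],248,248,2)]

theorem exact24 : Exact G24x.nets ch24 G24x.L := exact_of_beq G24x.card.le (by decide +kernel)

/-- the generators of `J2` as words. -/
def V24 : List (List ℕ) := [[], [4, 6, 5, 4, 3, 5, 6, 4], [6, 1], [4], [7, 4, 6, 4, 7], [6]]

theorem stab24 : (∀ g ∈ cl (gp G24x.nets) G24x.L, g 0 = 0 ↔ g ∈ cl (gp G24x.nets) [1, 2, 3, 4, 5, 6, 7]) ∧
    Nat.card (cl (gp G24x.nets) [1, 2, 3, 4, 5, 6, 7]) = 604800 := by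
  obtain ⟨-, -, a, -, -, b⟩ := exact24.cons G24x.nets_ok
  rw [G24x.card] at b
  exact ⟨a, by omega⟩

theorem coatom_stab {A : Type*} [Group A] {Φ : A →* Equiv.Perm ℕ} {M : Subgroup A} (hM : IsCoatom M) {y a s : ℕ}
    (h : M ≤ stab Φ y) (ha : ∀ p, a ≤ p → p < a + s → ∃ g ∈ (⊤ : Subgroup A), Φ g a = p) (hs : 1 < s) (h1 : a ≤ y)
    (h2 : y < a + s) {p : ℕ} (h3 : a ≤ p) (h4 : p < a + s) : IsCoatom (stab Φ p) := by
  obtain ⟨g, -, rfl⟩ := ha y h1 h2
  have t : ∀ p, a ≤ p → p < a + s → ∃ k, Φ k (Φ g a) = p := fun p b c => by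
    obtain ⟨k, -, rfl⟩ := ha p b c
    exact ⟨k * g⁻¹, by simp⟩
  have : stab Φ (Φ g a) = M := (hM.le_iff.1 h).resolve_left fun e => by
    obtain ⟨k, hk⟩ := t a le_rfl (by omega)
    obtain ⟨l, hl⟩ := t (a + 1) (by omega) (by omega)
    rw [mem_stab.1 (e.ge (mem_top k))] at hk
    rw [mem_stab.1 (e.ge (mem_top l))] at hl
    omega
  obtain ⟨k, rfl⟩ := t p h3 h4
  rw [← ((MulAut.conj k).comapSubgroup).isCoatom_iff]
  convert hM
  rw [← this]; ext x; simp [mem_stab]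

theorem hom24 : ∃ Φ : pc.gen gs →* Equiv.Perm ℕ, Function.Injective Φ ∧
    Φ.range = cl (gp G24x.nets) [1, 2, 3, 4, 5, 6, 7] ∧ ∀ y, 0 < y → y < 416 → IsCoatom (stab Φ y) := by
  have hB := (exact24.isBase G24x.nets_ok)
  have ht := tbA_pt G24x.nets_ok
  have hM : ∀ x ∈ G24x.L, gp G24x.nets x ∈ cl (gp G24x.nets) G24x.L := fun _ => mem_cl
  obtain ⟨e1, h1⟩ := embed_of_rels J2x.simple J2x.nets_iv J2x.nets_rel J2x.ord J2x.lb
    (siv (V := V24) hB ht hM (by decide +kernel) (by decide +kernel))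
    (srels hB ht hM (by decide +kernel) (by decide +kernel)) (x := 3) (by decide) (sv_ne (p := 4) ht (by decide +kernel))
  obtain ⟨e2, h2⟩ := equiv
  obtain ⟨e3, h3⟩ := equiv100
  let Φ := (Subgroup.subtype _).comp ((e3.symm.trans e2).trans e1).toMonoidHom
  have hr : Φ.range = cl (gp G24x.nets) [1, 2, 3, 4, 5, 6, 7] := by
    rw [MonoidHom.range_comp, MonoidHom.range_eq_top.2 (MulEquiv.surjective _), ← MonoidHom.range_eq_map, range_subtype]
    have := G24x.nets_ok.finite [1, 2, 3, 4, 5, 6, 7]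
    exact eq_of_le_of_card_ge (cl_le.2 fun x _ => sv_mem (fun _ => mem_cl) (by decide +kernel) x)
      (by rw [stab24.2, ← Nat.card_congr e1.toEquiv, J2x.card])
  have hw := hom_wordN Φ (d := sv (gp G24x.nets) V24) fun i hi => by
    have hi' : i + 1 ∈ J2x.L := by revert i; decide
    have a : e3.symm ⟨_, (Golay.Coding.inH_wordN gs_inH [i]).2⟩ = δ (i + 1) :=
      e3.symm_apply_eq.2 (Subtype.ext ((congrArg pc.dec (by clear hi'; revert i; decide +kernel)).trans (h3 _ hi').symm))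
    have := h1 [i + 1] (by simpa using hi')
    simp only [ev_single] at this
    rw [← this]
    exact congrArg (fun x => (e1 x : Equiv.Perm ℕ)) ((congrArg e2 a).trans (Subtype.ext (h2 _ hi')))
  have hf : ∀ (W : List (List ℕ)) (y : ℕ), (∀ w ∈ W, (∀ i ∈ w, i < 5) ∧
      wap2 (fun x p => ptInv (nth Net.nil G24x.nets x) p) (nth [] V24) (w.map (· + 1)) 1 y = y) →
      (pc.gen (Golay.mapL (Golay.wordN 100 gs) W)).subgroupOf (pc.gen gs) ≤ stab Φ y := fun W y h g hg => by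
    have : pc.gen (Golay.mapL (Golay.wordN 100 gs) W) ≤ (stab Φ y).map (pc.gen gs).subtype :=
      Golay.Coding.gen_le fun g hg => by
        obtain ⟨w, hw', rfl⟩ := List.mem_map.1 (Golay.mapL_eq _ _ ▸ hg)
        refine ⟨(Golay.Coding.inH_wordN gs_inH w).1, ⟨_, (Golay.Coding.inH_wordN gs_inH w).2⟩, mem_stab.2 ?_, rfl⟩
        have := (h w hw').2
        rw [wap2_eq ht, pow_one, Equiv.Perm.inv_eq_iff_eq] at this
        rw [hw w (h w hw').1]; exact this.symm
    exact (mem_map_iff_mem (subtype_injective _)).1 (this hg)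
  have b := G24x.simpleB
  simp only [cnd_tt] at b
  have hS := subsIn_of_subsB G24x.nets_ok (K := ⊤) ((MonoidHom.range_eq_map Φ).symm.trans hr) b.2.2.2
  refine ⟨Φ, (subtype_injective _).comp (MulEquiv.injective _), hr, fun y a c => ?_⟩
  rcases lt_or_ge y 101 with d | d
  · refine coatom_stab coatom_H0 (y := 37) ?_ hS.1.1 (by decide) (by decide) (by decide) a d
    rw [← gen_hs, show hs = Golay.mapL (Golay.wordN 100 gs) [[0], [3, 2, 1]] by decide +kernel]
    exact hf _ _ (by decide +kernel)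
  · refine coatom_stab coatom_Cz (y := 141) ?_ hS.2.1.1 (by decide) (by decide) (by decide) d c
    rw [← gen_cs, show cs = Golay.mapL (Golay.wordN 100 gs) [[2, 4, 1, 0, 2, 4, 1], [4, 3, 1, 2, 0, 4, 2]] by
      decide +kernel]
    exact hf _ _ (by decide +kernel)

theorem extremely_primitive {G : Type*} [Group G] (e : cl (gp G24x.nets) G24x.L ≃* G) : ∃ H : Subgroup G,
    IsCoatom H ∧ Spor.IsoJ2 H ∧
      ∀ x : G, x ∉ H → IsCoatom ((H ⊓ H.map (MulAut.conj x).toMonoidHom).subgroupOf H) := by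
  obtain ⟨Φ, h1, h2, h3⟩ := hom24
  obtain ⟨e3, -⟩ := equiv100
  let f := (Subgroup.subtype _).comp e.symm.toMonoidHom
  have hi : Function.Injective f := (subtype_injective _).comp e.symm.injective
  have hr : f.range = cl (gp G24x.nets) G24x.L := by
    rw [MonoidHom.range_comp, MonoidHom.range_eq_top.2 (MulEquiv.surjective _), ← MonoidHom.range_eq_map, range_subtype]
  have hm : (stab f 0).map f = cl (gp G24x.nets) [1, 2, 3, 4, 5, 6, 7] := by
    refine le_antisymm ?_ fun g hg => ?_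
    · rintro _ ⟨g, hg, rfl⟩
      exact (stab24.1 _ (e.symm g).2).1 hg
    · obtain ⟨k, rfl⟩ := hr.ge (cl_mono (by decide) hg)
      exact ⟨k, (stab24.1 _ (e.symm k).2).2 hg, rfl⟩
  have b := G24x.simpleB
  simp only [cnd_tt] at b
  have ht := transOn_of_transB G24x.nets_ok hr b.1
  let ε : stab f 0 ≃* pc.gen gs := (((stab f 0).equivMapOfInjective f hi).trans
    (MulEquiv.subgroupCongr (hm.trans h2.symm))).trans (MonoidHom.ofInjective h1).symm
  have hε : ∀ g, Φ (ε g) = f g := fun g => MonoidHom.apply_ofInjective_symm h1 _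
  refine ⟨stab f 0, coatom_of_subs ht (subsIn_of_subsB G24x.nets_ok hm b.2.2.2) (by decide) (by decide) (by decide),
    ⟨ε.trans e3.symm⟩, fun x hx => ?_⟩
  have := ε.comapSubgroup.isCoatom_iff _ |>.2 (h3 (f x 0) (Nat.pos_of_ne_zero hx) (ht.1 x))
  convert this
  ext g
  simp only [mem_subgroupOf, mem_inf, g.2, true_and, MulEquiv.comapSubgroup_apply, mem_comap, mem_stab]
  erw [hε, mem_map_equiv, mem_stab]
  simp [Equiv.symm_apply_eq]

end Cfsg.Lib.J2
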